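import Groth.Agent.L05.MinModel.Main
import Groth.Agent.L05.PtSeq.PointIdeal
import Groth.Agent.L23.SchKer
import Groth.Agent.S0443
import Groth.Agent.L05.PointBlowArith.Numeric
import Mathlib.AlgebraicGeometry.ZariskisMainTheorem

/-!
# Non-isomorphic minimal models: the closed fibre is a projective line
-/

set_option autoImplicit false
set_option linter.style.haveILetI false
set_option backward.isDefEq.respectTransparency false

universe u

open CategoryTheory CategoryTheory.Limits AlgebraicGeometry TopologicalSpace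

noncomputable section

namespace Groth.L05.MinModel

open Groth.L05.PtSeq (IsPtBlow stI)
open Groth.L03.BlowPt (exc eι ptI)

variable {R : Type u} [CommRing R] [IsDomain R] [IsDiscreteValuationRing R]
  {C : Scheme.{u}} {f : C ⟶ Spec (CommRingCat.of (FractionRing R))}

/-- The closed fibre is a projective line over the residue field. -/
def P1Fibre (R : Type u) [CommRing R] [IsDomain R] [IsDiscreteValuationRing R] {B : Scheme.{u}}
    (p : B ⟶ Spec (CommRingCat.of R)) : Prop :=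
  ∃ e : Models.specialFibre R B p ≅ CohB1.ProjSpace 1 (IsLocalRing.ResidueField R),
    e.hom ≫ CohB1.ProjSpace.toSpec 1 (IsLocalRing.ResidueField R) =
      pullback.snd p (Spec.map (CommRingCat.ofHom (algebraMap R (IsLocalRing.ResidueField R))))

theorem stalkMap_stalkHom {Z Z₁ : Scheme.{u}} (b : Z ⟶ Z₁) (q : Z₁ ⟶ Spec (CommRingCat.of R)) (z : Z) (r : R) :
    b.stalkMap z (Models.stalkHom R (Over.mk q) (b z) r) = Models.stalkHom R (Over.mk (b ≫ q)) z r := by
  show b.stalkMap z ((Z₁.presheaf.germ ⊤ (b z) trivial) (Coh.toGlobal q r)) =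
    (Z.presheaf.germ ⊤ z trivial) (Coh.toGlobal (b ≫ q) r)
  rw [Scheme.Hom.germ_stalkMap_apply, Groth.L05.PointBlowArith.toGlobal_comp]
  rfl

theorem surjective_of_isIso_off {Z Z₁ : Scheme.{u}} (b : Z ⟶ Z₁) {y : Z₁} (hy : IsClosed ({y} : Set Z₁))
    [IsIso (b ∣_ (⟨{y}ᶜ, hy.isOpen_compl⟩ : Z₁.Opens))] (hmem : y ∈ Set.range b) (w : Z₁) : ∃ z, b z = w := by
  by_cases hw : w = y
  · exact hw ▸ hmem
  · let W : Z₁.Opens := ⟨{y}ᶜ, hy.isOpen_compl⟩
    obtain ⟨z, hz⟩ := (b ∣_ W).homeomorph.surjective (⟨w, hw⟩ : W)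
    exact ⟨z.1, by rw [← morphismRestrict_base_coe b W z]; exact congrArg Subtype.val hz⟩

theorem closedPoint_of_closed {Z : Scheme.{u}} (q : Z ⟶ Spec (CommRingCat.of R)) [IsProper q] {y : Z}
    (hy : IsClosed ({y} : Set Z)) : q y = IsLocalRing.closedPoint R := by
  have h1 : IsClosed ({q y} : Set (Spec (CommRingCat.of R))) := by simpa using q.isClosedMap _ hy
  exact (h1.closure_eq.subset (specializes_iff_mem_closure.1 (IsLocalRing.specializes_closedPoint (q y)))).symm

/-- A component list through two given vertical curves. -/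
theorem exists_componentList_pair {Z : Scheme.{u}} {p : Z ⟶ Spec (CommRingCat.of R)}
    (hC : Curve.IsSmoothProperCurve (FractionRing R) C f) (hZ : Models.IsRegularProperModel R Z p C f)
    (Γ₁ Γ₂ : ArSurf.VertComp R (Over.mk p))
    (hne : Set.range (Γ₁.ι.base : Γ₁.curve.left → Z) ≠ Set.range (Γ₂.ι.base : Γ₂.curve.left → Z)) :
    ∃ (n : ℕ) (Γ : Fin n → ArSurf.VertComp R (Over.mk p)) (i j : Fin n), i ≠ j ∧
      Models.IsComponentList R (Over.mk p) Γ ∧ Γ i = Γ₁ ∧ Γ j = Γ₂ := by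
  classical
  obtain ⟨hint, hN, hdim, -⟩ := surface hC hZ
  haveI := hint
  haveI : Flat (Over.mk p).hom := hZ.1.1
  haveI : IsProper (Over.mk p).hom := hZ.2.1
  haveI : IsIntegral (Over.mk p).left := hint
  haveI : LocallyOfFiniteType p := hZ.1.2.1
  haveI : IsLocallyNoetherian (Over.mk p).left := LocallyOfFiniteType.isLocallyNoetherian p
  have hreg : Models.IsRegularScheme (Over.mk p).left := hZ.2.2
  obtain ⟨n, Γ, hΓ, -⟩ := Groth.L05.GeomMult.exists_componentList (X := Over.mk p) hdim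
  have key : ∀ Δ : ArSurf.VertComp R (Over.mk p),
      ∃ i, Set.range ((Γ i).ι.base : (Γ i).curve.left → Z) = Set.range (Δ.ι.base : Δ.curve.left → Z) := by
    intro Δ
    obtain ⟨i, hi⟩ := Groth.L05.FibreDecomp.exists_component (X := Over.mk p) hΓ
      (x := Models.genPtOf R (Over.mk p) Δ) (by
        show (Δ.ι ≫ (Over.mk p).hom) (genericPoint Δ.curve.left) = IsLocalRing.closedPoint R
        rw [Δ.w]
        exact Groth.L05.GeomMult.range_pt.subset ⟨_, rfl⟩)
    have h := Groth.L05.InterPair.eq_of_mem_support hreg hdim (Γ := Δ) (Γ' := Γ i)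
      (by rw [Groth.L05.FibreDecomp.support_ker]; exact hi)
    refine ⟨i, ?_⟩
    rw [← Groth.L05.FibreDecomp.support_ker, ← Groth.L05.FibreDecomp.support_ker, h]
  obtain ⟨i, hi⟩ := key Γ₁
  obtain ⟨j, hj⟩ := key Γ₂
  have hij : i ≠ j := fun h => hne (by rw [← hi, ← hj, h])
  refine ⟨n, Function.update (Function.update Γ i Γ₁) j Γ₂, i, j, hij, ?_,
    by simp [Function.update_of_ne hij], by simp⟩
  have h : (fun l => Set.range ((Function.update (Function.update Γ i Γ₁) j Γ₂ l).ι.base :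
      _ → (Over.mk p).left)) = fun l => Set.range ((Γ l).ι.base : (Γ l).curve.left → (Over.mk p).left) :=
    funext fun l => by
      by_cases hlj : l = j
      · rw [show Function.update (Function.update Γ i Γ₁) j Γ₂ l = Γ₂ by simp [hlj], hlj]
        exact hj.symm
      · by_cases hli : l = i
        · rw [show Function.update (Function.update Γ i Γ₁) j Γ₂ l = Γ₁ by
            subst hli; simp [Function.update_of_ne hlj], hli]
          exact hi.symm
        · rw [show Function.update (Function.update Γ i Γ₁) j Γ₂ l = Γ l by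
            simp [Function.update_of_ne hlj, Function.update_of_ne hli]]
  unfold Models.IsComponentList
  rw [h]
  exact hΓ

/-- A reduced closed fibre isomorphic to the projective line. -/
theorem p1_of_component {B : Scheme.{u}} {p : B ⟶ Spec (CommRingCat.of R)}
    (hB : Models.IsRegularProperModel R B p C f) (Γ : ArSurf.VertComp R (Over.mk p))
    (hrange : Set.range (Γ.ι.base : Γ.curve.left → B) = p ⁻¹' {IsLocalRing.closedPoint R})
    (hm : Models.mult R (Over.mk p) Γ = 1)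
    (hP : ∃ e : Γ.curve.left ≅ CohB1.ProjSpace 1 (IsLocalRing.ResidueField R),
      e.hom ≫ CohB1.ProjSpace.toSpec 1 (IsLocalRing.ResidueField R) = Γ.curve.hom) : P1Fibre R p := by
  haveI : Flat (Over.mk p).hom := hB.1.1
  haveI : LocallyOfFiniteType p := hB.1.2.1
  haveI : IsLocallyNoetherian (Over.mk p).left := LocallyOfFiniteType.isLocallyNoetherian p
  have hreg : Models.IsRegularScheme (Over.mk p).left := hB.2.2
  have hΓ : Models.IsComponentList R (Over.mk p) (fun _ : Fin 1 => Γ) :=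
    Groth.L05.ArFamily.isComponentList_of_cover _ (fun a b _ => Subsingleton.elim a b)
      (fun x hx => ⟨0, hrange.ge hx⟩)
  have h1 := Groth.L05.FibreDecomp.specialFibreIdeal_eq_prod hreg hΓ
  rw [Fin.prod_univ_one, hm, pow_one] at h1
  let l : Γ.curve.left ⟶ pullback p (Groth.L05.GeomMult.pt R) := pullback.lift Γ.ι Γ.curve.hom Γ.w
  haveI : IsClosedImmersion (pullback.fst p (Groth.L05.GeomMult.pt R)) := inferInstance
  have hker : (pullback.fst p (Groth.L05.GeomMult.pt R)).ker = Γ.ι.ker :=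
    (Groth.L05.GeomMult.ker_fst_eq (X := Over.mk p)).trans h1
  haveI : IsIso (IsClosedImmersion.lift (pullback.fst p (Groth.L05.GeomMult.pt R)) Γ.ι hker.le) :=
    IsClosedImmersion.isIso_lift _ _ hker
  have hl : l = IsClosedImmersion.lift (pullback.fst p (Groth.L05.GeomMult.pt R)) Γ.ι hker.le := by
    rw [← cancel_mono (pullback.fst p (Groth.L05.GeomMult.pt R)), IsClosedImmersion.lift_fac]
    exact pullback.lift_fst _ _ _
  haveI : IsIso l := hl ▸ ‹_›
  obtain ⟨e, he⟩ := hP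
  refine ⟨(asIso l).symm ≪≫ e, ?_⟩
  show (inv l ≫ e.hom) ≫ _ = pullback.snd p (Groth.L05.GeomMult.pt R)
  rw [Category.assoc, he, IsIso.inv_comp_eq]
  exact (pullback.lift_snd _ _ _).symm

/-- An irreducible closed fibre contains no exceptional curve. -/
theorem isEmpty_exc_of_irreducible {Z₁ Z₂ E : Scheme.{u}} {r : Z₂ ⟶ Spec (CommRingCat.of R)} (b : Z₁ ⟶ Z₂)
    (hC : Curve.IsSmoothProperCurve (FractionRing R) C f)
    (h₁ : Models.IsRegularProperModel R Z₁ (b ≫ r) C f) (h₂ : Models.IsRegularProperModel R Z₂ r C f)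
    (hirr : IsIrreducible ((b ≫ r) ⁻¹' {IsLocalRing.closedPoint R} : Set Z₁))
    (ι : E ⟶ Z₁) [IsClosedImmersion ι] (hE : Models.IsExcCurve ι) (hb : Models.IsContractionOf ι b) : False := by
  obtain ⟨hN, hbp, y, hy, hry, hreg, hdim, hbl⟩ := hb
  haveI := hN; haveI := hbp; haveI := h₂.2.1
  haveI : IsIso (b ∣_ (⟨{y}ᶜ, hy.isOpen_compl⟩ : Z₂.Opens)) := IsPtBlow.isIso_off (hy := hy) ⟨hreg, hdim, hbl⟩
  have hyE : ∀ a, b (ι a) = y := fun a => by
    have h : (ι ≫ b) a ∈ ({y} : Set Z₂) := hry ▸ ⟨a, rfl⟩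
    exact h
  have hys := closedPoint_of_closed r hy
  obtain ⟨hint, hN₁, hd₁, -⟩ := surface hC h₁
  obtain ⟨hint₂, -, hd₂, -⟩ := surface hC h₂
  haveI : Flat (Over.mk (b ≫ r)).hom := h₁.1.1
  haveI : IsProper (Over.mk (b ≫ r)).hom := h₁.2.1
  haveI : IsIntegral (Over.mk (b ≫ r)).left := hint
  haveI : IsLocallyNoetherian (Over.mk (b ≫ r)).left := hN₁.toIsLocallyNoetherian
  obtain ⟨n, Γ, hΓ, -⟩ := Groth.L05.GeomMult.exists_componentList (X := Over.mk (b ≫ r)) hd₁
  obtain ⟨Δ, hΔ, -⟩ := exists_vertComp (b ≫ r) ι hE (by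
    rintro _ ⟨a, rfl⟩
    show r (b (ι a)) = _
    rw [hyE]; exact hys)
  have hF : ∀ z : Z₁, r (b z) = IsLocalRing.closedPoint R → z ∈ Set.range ι := by
    obtain ⟨i, hi⟩ := Groth.L05.FibreDecomp.exists_component (X := Over.mk (b ≫ r)) hΓ
      (x := Models.genPtOf R (Over.mk (b ≫ r)) Δ) (by
        show (b ≫ r) _ = _
        obtain ⟨a, ha⟩ := hΔ.subset ⟨genericPoint Δ.curve.left, rfl⟩
        rw [Models.genPtOf, ← ha]
        show r (b (ι a)) = _
        rw [hyE]; exact hys)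
    have h := Groth.L05.InterPair.eq_of_mem_support (X := Over.mk (b ≫ r)) h₁.2.2 hd₁ (Γ := Δ) (Γ' := Γ i)
      (by rw [Groth.L05.FibreDecomp.support_ker]; exact hi)
    have hmax : Set.range ((Γ i).ι.base : (Γ i).curve.left → Z₁) ∈ Models.fibreComponents R (Over.mk (b ≫ r)) :=
      hΓ.2 ▸ ⟨i, rfl⟩
    intro z hz
    have hz' : z ∈ Set.range ((Γ i).ι.base : (Γ i).curve.left → Z₁) :=
      hmax.2 ⟨hirr, subset_rfl⟩ hmax.1.2 hz
    rw [← Groth.L05.FibreDecomp.support_ker, ← h, Groth.L05.FibreDecomp.support_ker] at hz'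
    exact hΔ ▸ hz'
  haveI : Nonempty E := haveI := (excCurve_integral hE).1; inferInstance
  haveI : Flat (Over.mk r).hom := h₂.1.1
  haveI : IsProper (Over.mk r).hom := h₂.2.1
  haveI : IsIntegral (Over.mk r).left := hint₂
  obtain ⟨m, Γ', hΓ', -⟩ := Groth.L05.GeomMult.exists_componentList (X := Over.mk r) hd₂
  obtain ⟨j, -⟩ := Groth.L05.FibreDecomp.exists_component (X := Over.mk r) hΓ' (x := y) hys
  have hsub : ∀ c, (Γ' j).ι c = y := fun c => by
    obtain ⟨z, hz⟩ := surjective_of_isIso_off b hy ⟨ι (Classical.arbitrary E), hyE _⟩ ((Γ' j).ι c)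
    have hc : r ((Γ' j).ι c) = IsLocalRing.closedPoint R := by
      show ((Γ' j).ι ≫ (Over.mk r).hom) c = _
      rw [(Γ' j).w]
      exact Groth.L05.GeomMult.range_pt.subset ⟨_, rfl⟩
    obtain ⟨a, ha⟩ := hF z (by rw [hz]; exact hc)
    rw [← hz, ← ha, hyE]
  haveI : Subsingleton (Γ' j).curve.left :=
    ⟨fun c d => (Γ' j).ι.isClosedEmbedding.injective ((hsub c).trans (hsub d).symm)⟩
  haveI : DiscreteTopology (Γ' j).curve.left := Subsingleton.discreteTopology
  have h0 := topologicalKrullDim_zero_of_discreteTopology (Γ' j).curve.left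
  rw [(Γ' j).dim_eq] at h0
  exact absurd h0 (by decide)

theorem stI_sup {Z : Scheme.{u}} (I J : Z.IdealSheafData) (z : Z) : stI (I ⊔ J) z = stI I z ⊔ stI J z := by
  obtain ⟨U, hU⟩ := Groth.L05.PtSeq.exists_affine z
  rw [Groth.L05.PtSeq.stI_eq _ U hU, Groth.L05.PtSeq.stI_eq _ U hU, Groth.L05.PtSeq.stI_eq _ U hU]
  exact (congrArg (Ideal.map _) (congrFun (Scheme.IdealSheafData.ideal_sup) U)).trans (Ideal.map_sup _ _ _)

theorem mult_eq_one {Z : Over (Spec (CommRingCat.of R))} (Γ : ArSurf.VertComp R Z)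
    (h : (IsLocalRing.maximalIdeal R).map (Models.stalkHom R Z (Models.genPtOf R Z Γ)) =
      IsLocalRing.maximalIdeal (Z.left.presheaf.stalk (Models.genPtOf R Z Γ))) :
    Models.mult R Z Γ = 1 := by
  show (Module.length _ (_ ⧸ (IsLocalRing.maximalIdeal R).map (Models.stalkHom R Z (Models.genPtOf R Z Γ)))).toNat = 1
  rw [h]
  haveI : IsSimpleModule (Z.left.presheaf.stalk (Models.genPtOf R Z Γ))
      (Z.left.presheaf.stalk (Models.genPtOf R Z Γ) ⧸
        IsLocalRing.maximalIdeal (Z.left.presheaf.stalk (Models.genPtOf R Z Γ))) :=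
    isSimpleModule_iff_isCoatom.2 (Ideal.isMaximal_def.1 inferInstance)
  rw [Module.length_eq_one]; rfl

/-- The ideal of a closed subscheme dies in its stalks. -/
theorem stalkMap_stI_ker {F Z : Scheme.{u}} (κ : F ⟶ Z) [IsClosedImmersion κ] (a : F)
    {t : Z.presheaf.stalk (κ a)} (ht : t ∈ stI κ.ker (κ a)) : κ.stalkMap a t = 0 := by
  obtain ⟨U, hU⟩ := Groth.L05.PtSeq.exists_affine (κ a)
  rw [Groth.L05.PtSeq.stI_eq _ U hU] at ht
  refine RingHom.mem_ker.1 ((Ideal.map_le_iff_le_comap (f := (Z.presheaf.germ U.1 (κ a) hU).hom)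
    (K := RingHom.ker (κ.stalkMap a).hom)).2 (fun s hs => ?_) ht)
  rw [Scheme.Hom.ker_apply, RingHom.mem_ker] at hs
  show κ.stalkMap a (Z.presheaf.germ U.1 (κ a) hU s) = 0
  rw [Scheme.Hom.germ_stalkMap_apply]
  exact (congrArg _ hs).trans (map_zero _)

/-- A curve meeting an exceptional divisor transversally at a rational point survives the contraction. -/
theorem isClosedImmersion_meet {F Z Z₁ : Scheme.{u}} [AlgebraicGeometry.IsNoetherian Z₁] (κ : F ⟶ Z)
    [IsClosedImmersion κ] (b : Z ⟶ Z₁) [IsProper b] (q : Z₁ ⟶ Spec (CommRingCat.of R)) {y : Z₁}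
    {hy : IsClosed ({y} : Set Z₁)} (hpb : IsPtBlow b y hy) (x : Z)
    (hone : ∀ a : F, b (κ a) = y → κ a = x)
    (hsupx : stI (exc hy b) x ⊔ stI κ.ker x = IsLocalRing.maximalIdeal (Z.presheaf.stalk x))
    (hres : Function.Surjective ((Z.residue x).hom.comp (Models.stalkHom R (Over.mk (b ≫ q)) x))) :
    IsClosedImmersion (κ ≫ b) := by
  let W : Z₁.Opens := ⟨{y}ᶜ, hy.isOpen_compl⟩
  haveI : IsIso (b ∣_ W) := hpb.isIso_off
  have hinj : Function.Injective (κ ≫ b) := by
    intro a a' h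
    have h' : b (κ a) = b (κ a') := h
    refine κ.isClosedEmbedding.injective ?_
    by_cases ha : b (κ a) = y
    · rw [hone a ha, hone a' (h' ▸ ha)]
    · exact Groth.L05.RelMinExists.eq_of_isIso_restrict' b W (show b (κ a) ∈ W from ha) h'
  haveI : LocallyQuasiFinite (κ ≫ b) := LocallyQuasiFinite.of_injective hinj
  haveI : IsFinite (κ ≫ b) := IsFinite.of_isProper_of_locallyQuasiFinite _
  haveI : SurjectiveOnStalks (κ ≫ b) := by
    constructor
    intro a
    by_cases ha : b (κ a) = y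
    swap
    · haveI := hpb.isIso_stalkMap ha
      rw [Scheme.Hom.stalkMap_comp]
      intro c
      obtain ⟨d, rfl⟩ := κ.stalkMap_surjective a c
      obtain ⟨w, rfl⟩ := (ConcreteCategory.bijective_of_isIso (b.stalkMap (κ a))).2 d
      exact ⟨w, rfl⟩
    · have hax : κ a = x := hone a ha
      subst hax
      have hσ : Function.Surjective (κ.stalkMap a) := κ.stalkMap_surjective a
      have hφ : ∀ c, (κ ≫ b).stalkMap a c = κ.stalkMap a (b.stalkMap (κ a) c) := fun c => by
        rw [Scheme.Hom.stalkMap_comp]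
        rfl
      have hfin : ((κ ≫ b).stalkMap a).hom.Finite :=
        Groth.Agent.S0443.result (κ ≫ b) a fun a' h => hinj h
      have hm : (IsLocalRing.maximalIdeal (F.presheaf.stalk a)) ≤
          (IsLocalRing.maximalIdeal (Z₁.presheaf.stalk ((κ ≫ b) a))).map ((κ ≫ b).stalkMap a).hom := by
        intro c hc
        obtain ⟨z, rfl⟩ := hσ c
        have hz : z ∈ IsLocalRing.maximalIdeal (Z.presheaf.stalk (κ a)) := by
          rw [IsLocalRing.mem_maximalIdeal] at hc ⊢
          exact fun hu => hc (hu.map (κ.stalkMap a).hom)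
        rw [← hsupx, Submodule.mem_sup] at hz
        obtain ⟨t, ht, t', ht', rfl⟩ := hz
        rw [map_add, stalkMap_stI_ker κ a ht', add_zero]
        rw [show exc hy b = (ptI hy).comap b from rfl, Groth.L05.PtSeq.stI_comap] at ht
        refine (Ideal.map_le_iff_le_comap (K := Ideal.comap (κ.stalkMap a).hom ((IsLocalRing.maximalIdeal
          (Z₁.presheaf.stalk ((κ ≫ b) a))).map ((κ ≫ b).stalkMap a).hom))).2 (fun u hu => ?_) ht
        show κ.stalkMap a (b.stalkMap (κ a) u) ∈ (IsLocalRing.maximalIdeal (Z₁.presheaf.stalk ((κ ≫ b) a))).map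
          ((κ ≫ b).stalkMap a).hom
        rw [← hφ u]
        refine Ideal.mem_map_of_mem _ ?_
        have hne : stI (ptI hy) (b (κ a)) ≠ ⊤ := by
          rw [Ne, Groth.L05.PtSeq.stI_eq_top_iff]
          simpa [ptI] using ha
        exact IsLocalRing.le_maximalIdeal hne hu
      letI := ((κ ≫ b).stalkMap a).hom.toAlgebra
      haveI : Module.Finite (Z₁.presheaf.stalk ((κ ≫ b) a)) (F.presheaf.stalk a) := hfin
      have hsurj : (⊤ : Submodule (Z₁.presheaf.stalk ((κ ≫ b) a)) (F.presheaf.stalk a)) ≤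
          LinearMap.range (Algebra.linearMap _ _) := by
        refine Submodule.le_of_le_smul_of_le_jacobson_bot Module.Finite.fg_top
          (IsLocalRing.maximalIdeal_le_jacobson _) fun c _ => ?_
        obtain ⟨z, rfl⟩ := hσ c
        obtain ⟨r₀, hr₀⟩ := hres ((Z.residue (κ a)) z)
        let s₀ : Z.presheaf.stalk (κ a) := Models.stalkHom R (Over.mk (b ≫ q)) (κ a) r₀
        have hd : z - s₀ ∈ IsLocalRing.maximalIdeal (Z.presheaf.stalk (κ a)) := by
          rw [← IsLocalRing.residue_eq_zero_iff, map_sub, sub_eq_zero]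
          exact hr₀.symm
        refine Submodule.mem_sup.2 ⟨(κ ≫ b).stalkMap a (Models.stalkHom R (Over.mk q) (b (κ a)) r₀), ⟨_, rfl⟩,
          κ.stalkMap a (z - s₀), ?_, ?_⟩
        · rw [Ideal.smul_top_eq_map]
          exact hm ((IsLocalRing.mem_maximalIdeal _).2 fun hu =>
            (IsLocalRing.mem_maximalIdeal _).1 hd ((isUnit_map_iff (κ.stalkMap a).hom _).1 hu))
        · rw [hφ, show b.stalkMap (κ a) (Models.stalkHom R (Over.mk q) (b (κ a)) r₀) = s₀ from
            stalkMap_stalkHom b q (κ a) r₀, map_sub, add_sub_cancel]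
      intro c
      obtain ⟨w, hw⟩ := hsurj (Submodule.mem_top (x := c))
      exact ⟨w, hw⟩
  exact ⟨Topology.IsClosedEmbedding.of_continuous_injective_isClosedMap (κ ≫ b).continuous hinj
    (κ ≫ b).isClosedMap⟩

/-- A component of multiplicity one away from the other one of two. -/
theorem map_maximalIdeal_of_two {Z : Over (Spec (CommRingCat.of R))} [Flat Z.hom] [IsLocallyNoetherian Z.left]
    (hreg : Models.IsRegularScheme Z.left) {n : ℕ} {Γ : Fin n → ArSurf.VertComp R Z}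
    (hΓ : Models.IsComponentList R Z Γ) (hmult : ∀ l, Models.mult R Z (Γ l) = 1) (i : Fin n) :
    (IsLocalRing.maximalIdeal R).map (Models.stalkHom R Z (Models.genPtOf R Z (Γ i))) =
      IsLocalRing.maximalIdeal (Z.left.presheaf.stalk (Models.genPtOf R Z (Γ i))) := by
  classical
  let ξ := Models.genPtOf R Z (Γ i)
  obtain ⟨U, hU⟩ := Groth.L05.PtSeq.exists_affine ξ
  rw [← Groth.L05.FibreDecomp.stalkIdeal_specialFibreIdeal U ξ hU,
    Groth.L05.FibreDecomp.specialFibreIdeal_eq_prod hreg hΓ, ← Groth.L05.PtSeq.stI_eq,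
    ← Finset.mul_prod_erase Finset.univ _ (Finset.mem_univ i), Groth.L05.PtSeq.stI_mul, hmult, pow_one,
    Groth.L05.PtSeq.stI_prod_eq_top _ _ (fun l hl => ?_), Ideal.mul_top, Groth.L05.PtSeq.stI_eq _ U hU]
  · haveI := Groth.L05.FibreDecomp.isIntegral_subscheme_ker (Γ i)
    exact Groth.L05.FibreDecomp.stalkIdeal_generic _ U ξ hU (Groth.L05.FibreDecomp.isGenericPoint_genPtOf (Γ i))
  · rw [hmult, pow_one]
    exact (Groth.L05.PtSeq.stI_eq_top_iff _ _).2 fun h => (Finset.mem_erase.1 hl).1 (Groth.L05.FibreDecomp.eq_of_genPtOf_mem hΓ h).symm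

/-- Two meeting exceptional curves over a minimal model force a projective line as closed fibre. -/
theorem fibre_of_meet {Z Z₁ B E E₁ : Scheme.{u}} {p : B ⟶ Spec (CommRingCat.of R)}
    (hC : Curve.IsSmoothProperCurve (FractionRing R) C f) (hH0 : IsIso f.appTop)
    (hB : Models.IsRegularProperModel R B p C f) (b : Z ⟶ Z₁) (r : Z₁ ⟶ B)
    (ι₁ : E₁ ⟶ Z) [hι₁ : IsClosedImmersion ι₁] (hE₁ : Models.IsExcCurve ι₁)
    (hb : Models.IsContractionOf ι₁ b) (hr : Models.IsContractionSeq r)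
    (ι : E ⟶ Z) [IsClosedImmersion ι] (hE : Models.IsExcCurve ι)
    (hv : Set.range ι ⊆ ((b ≫ r) ≫ p) ⁻¹' {IsLocalRing.closedPoint R})
    (hne : Set.range ι ≠ Set.range ι₁) (hmeet : ¬ Disjoint (Set.range ι) (Set.range ι₁)) : P1Fibre R p := by
  classical
  obtain ⟨gB, hgB⟩ := hB.1.2.2.2
  obtain ⟨g₁, -, -, hZ₁⟩ := seq_model hr hC p hB gB hgB
  obtain ⟨gZ, -, -, hZ⟩ := seq_model (Models.IsContractionSeq.step ι₁ b r hι₁ hE₁ hb hr) hC p hB gB hgB
  obtain ⟨hint₁, hN₁, -, -⟩ := surface hC hZ₁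
  obtain ⟨hint, hN, -, -⟩ := surface hC hZ
  haveI := hint₁; haveI := hN₁; haveI := hint; haveI := hN
  haveI := hZ₁.2.1; haveI := hB.2.1
  obtain ⟨-, hbp, y, hy, hr₁, hreg, hdim, hbl⟩ := id hb
  haveI := hbp
  have hpb : IsPtBlow b y hy := ⟨hreg, hdim, hbl⟩
  let W : Z₁.Opens := ⟨{y}ᶜ, hy.isOpen_compl⟩
  haveI : IsIso (b ∣_ W) := hpb.isIso_off
  have hE₁y : ∀ a, b (ι₁ a) = y := fun a => by
    have h : (ι₁ ≫ b) a ∈ ({y} : Set Z₁) := hr₁ ▸ ⟨a, rfl⟩
    exact h
  have hys := closedPoint_of_closed (r ≫ p) hy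
  have hv₁ : Set.range ι₁ ⊆ ((b ≫ r) ≫ p) ⁻¹' {IsLocalRing.closedPoint R} := by
    rintro _ ⟨a, rfl⟩
    show (r ≫ p) (b (ι₁ a)) = IsLocalRing.closedPoint R
    rw [hE₁y]; exact hys
  obtain ⟨Δ, hΔ, heΔ⟩ := exists_vertComp ((b ≫ r) ≫ p) ι hE hv
  obtain ⟨Δ₁, hΔ₁, heΔ₁⟩ := exists_vertComp ((b ≫ r) ≫ p) ι₁ hE₁ hv₁
  obtain ⟨n, Γ, i, j, hij, hΓ, hΓi, hΓj⟩ := exists_componentList_pair hC hZ Δ Δ₁ (by rwa [hΔ, hΔ₁])
  obtain ⟨hn, hmult, hP, ⟨x, hx, hsup, hres⟩, -⟩ := Groth.Agent.S3327.result R C Z f ((b ≫ r) ≫ p) hC hH0 hZ Γ hΓ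
    i j hij (by rw [hΓi]; exact heΔ) (by rw [hΓj]; exact heΔ₁) (by rw [hΓi, hΓj, hΔ, hΔ₁]; exact hmeet)
  have hPi := hP i
  have hmi := hmult i
  rw [hΓi] at hPi hmi hsup hx
  rw [hΓj] at hsup hx
  let F := Δ.curve.left
  let κ : F ⟶ Z := Δ.ι
  haveI : IsClosedImmersion κ := Δ.isClosedImmersion
  haveI : IsIntegral F := Δ.isIntegral
  have hxE₁ : x ∈ Set.range ι₁ := hΔ₁ ▸ (hx.ge rfl).2
  have hxcl : IsClosed ({x} : Set Z) := by
    rw [← hx]
    exact Δ.ι.isClosedEmbedding.isClosed_range.inter Δ₁.ι.isClosedEmbedding.isClosed_range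
  have hby : b x = y := by obtain ⟨a, rfl⟩ := hxE₁; exact hE₁y a
  have hone : ∀ a : F, b (κ a) = y → κ a = x := fun a ha => by
    have h1 : κ a ∈ Set.range ι₁ :=
      Groth.L13.Contraction.mem_range_of_apply hE₁ b hy hr₁ hreg hdim hbl (κ a) ha
    exact hx.subset ⟨⟨a, rfl⟩, hΔ₁.symm ▸ h1⟩
  -- the exceptional divisor
  have hexc : exc hy b = ι₁.ker := by
    obtain ⟨D⟩ := hpb.echart
    haveI := D.isIntegral
    haveI := (excCurve_integral hE₁).1
    have h1 : (eι hy b).ker = ι₁.ker := by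
      rw [Groth.L23.SchKer.ker_eq_vanishingIdeal, Groth.L23.SchKer.ker_eq_vanishingIdeal]
      congr 1
      ext1
      show closure (Set.range (eι hy b)) = closure (Set.range ι₁)
      congr 1
      rw [Groth.L05.PtSeq.range_exc]
      refine Set.Subset.antisymm (fun z hz => ?_) ?_
      · exact Groth.L13.Contraction.mem_range_of_apply hE₁ b hy hr₁ hreg hdim hbl z hz
      · rintro _ ⟨a, rfl⟩; exact hE₁y a
    rwa [Scheme.IdealSheafData.ker_subschemeι] at h1
  have hΔ₁ker : Δ₁.ι.ker = ι₁.ker := by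
    haveI := (excCurve_integral hE₁).1
    rw [Groth.L23.SchKer.ker_eq_vanishingIdeal, Groth.L23.SchKer.ker_eq_vanishingIdeal]
    congr 1
    ext1
    exact congrArg closure hΔ₁
  have hsup' : κ.ker ⊔ ι₁.ker = ptI hxcl := by
    rw [← hΔ₁ker]
    refine hsup.trans ?_
    show Scheme.IdealSheafData.vanishingIdeal _ = Scheme.IdealSheafData.vanishingIdeal _
    congr 1
    ext1
    exact hxcl.closure_eq
  have hsupx : stI ι₁.ker x ⊔ stI κ.ker x = IsLocalRing.maximalIdeal (Z.presheaf.stalk x) := by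
    rw [sup_comm, ← stI_sup, hsup', Groth.L05.PtSeq.stI_ptI]
  haveI : IsClosedImmersion (κ ≫ b) := isClosedImmersion_meet κ b (r ≫ p) hpb x hone
    (by rw [hexc]; exact hsupx) hres
  -- the closed fibre of the contracted model
  have hfib : ((r ≫ p) ⁻¹' {IsLocalRing.closedPoint R} : Set Z₁) = Set.range (κ ≫ b) := by
    refine Set.Subset.antisymm (fun w hw => ?_) ?_
    · obtain ⟨z, rfl⟩ := surjective_of_isIso_off b hy ⟨x, hby⟩ w
      obtain ⟨l, c, hc⟩ := Groth.L05.FibreDecomp.exists_component (X := Over.mk ((b ≫ r) ≫ p)) hΓ (x := z) hw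
      have hl : l = i ∨ l = j := by
        subst hn
        revert hij
        fin_cases i <;> fin_cases j <;> fin_cases l <;> simp
      rcases hl with rfl | rfl
      · have : z ∈ Set.range κ := by
          have h : z ∈ Set.range ((Γ l).ι.base : (Γ l).curve.left → Z) := ⟨c, hc⟩
          rw [hΓi] at h; exact h
        obtain ⟨a, rfl⟩ := this
        exact ⟨a, rfl⟩
      · have : z ∈ Set.range ι₁ := by
          have h : z ∈ Set.range ((Γ l).ι.base : (Γ l).curve.left → Z) := ⟨c, hc⟩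
          rw [hΓj] at h; exact hΔ₁ ▸ h
        obtain ⟨a₁, rfl⟩ := this
        obtain ⟨a, ha⟩ := (hx.ge rfl).1
        exact ⟨a, by show b (κ a) = _; rw [show κ a = x from ha, hby, hE₁y]⟩
    · rintro _ ⟨a, rfl⟩
      obtain ⟨a', ha'⟩ := hΔ.subset ⟨a, rfl⟩
      show (r ≫ p) (b (κ a)) = _
      rw [show κ a = ι a' from ha'.symm]
      exact hv ⟨a', rfl⟩
  cases hr with
  | step ι₂ b₂ r₂ hι₂ hE₂ hb₂ hr₂ =>
    obtain ⟨g₂, -, -, hZ₂⟩ := seq_model hr₂ hC p hB gB hgB
    haveI := hι₂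
    refine (isEmpty_exc_of_irreducible b₂ hC (by rwa [← Category.assoc]) hZ₂ ?_ ι₂ hE₂ hb₂).elim
    rw [← Category.assoc, hfib, ← Set.image_univ]
    exact (IrreducibleSpace.isIrreducible_univ F).image _ (κ ≫ b).continuous.continuousOn
  | iso e =>
    let bb := b ≫ e.hom
    let i' : F ⟶ B := κ ≫ bb
    haveI : IsClosedImmersion i' := by
      show IsClosedImmersion (κ ≫ b ≫ e.hom)
      rw [← Category.assoc]; infer_instance
    let Γ' : ArSurf.VertComp R (Over.mk p) :=
      { curve := Δ.curve, ι := i', isClosedImmersion := ‹_›, isIntegral := Δ.isIntegral, dim_eq := Δ.dim_eq,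
        w := (Category.assoc κ bb p).trans Δ.w }
    refine p1_of_component hB Γ' ?_ ?_ hPi
    · show Set.range i' = _
      ext w
      constructor
      · rintro ⟨a, rfl⟩
        exact hfib.ge ⟨a, rfl⟩
      · intro hw
        obtain ⟨a, ha⟩ := hfib.subset (show e.inv w ∈ (e.hom ≫ p) ⁻¹' {IsLocalRing.closedPoint R} by
          show (e.hom ≫ p) (e.inv w) = _
          rw [← Scheme.Hom.comp_apply, e.inv_hom_id_assoc]; exact hw)
        refine ⟨a, ?_⟩
        show e.hom ((κ ≫ b) a) = w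
        rw [ha, ← Scheme.Hom.comp_apply, e.inv_hom_id]; rfl
    · let ξ : Z := κ (genericPoint F)
      have hξy : b ξ ≠ y := fun h => by
        have hξx : ξ = x := hone _ h
        haveI : Subsingleton F := by
          refine ⟨fun c d => ?_⟩
          have key : ∀ c : F, κ c = x := fun c => by
            have h1 : ξ ⤳ κ c := (genericPoint_specializes c).map κ.continuous
            rw [hξx] at h1
            exact hxcl.closure_eq.subset h1.mem_closure
          exact κ.isClosedEmbedding.injective ((key c).trans (key d).symm)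
        haveI : DiscreteTopology F := Subsingleton.discreteTopology
        have h0 := topologicalKrullDim_zero_of_discreteTopology F
        rw [show topologicalKrullDim F = 1 from Δ.dim_eq] at h0
        exact absurd h0 (by decide)
      haveI := hpb.isIso_stalkMap hξy
      haveI : IsIso (bb.stalkMap ξ) := by
        show IsIso ((b ≫ e.hom).stalkMap ξ)
        rw [Scheme.Hom.stalkMap_comp]; infer_instance
      let τ := (asIso (bb.stalkMap ξ)).commRingCatIsoToRingEquiv
      have hkey : (IsLocalRing.maximalIdeal R).map (Models.stalkHom R (Over.mk p) (bb ξ)) =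
          IsLocalRing.maximalIdeal (B.presheaf.stalk (bb ξ)) := by
        have hm : (IsLocalRing.maximalIdeal R).map (Models.stalkHom R (Over.mk ((b ≫ e.hom) ≫ p)) ξ) =
            IsLocalRing.maximalIdeal (Z.presheaf.stalk ξ) := by
          haveI : Flat (Over.mk ((b ≫ e.hom) ≫ p)).hom := hZ.1.1
          haveI : IsLocallyNoetherian (Over.mk ((b ≫ e.hom) ≫ p)).left := hN.toIsLocallyNoetherian
          have h2 := map_maximalIdeal_of_two (Z := Over.mk ((b ≫ e.hom) ≫ p)) hZ.2.2 hΓ hmult i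
          rw [hΓi] at h2
          exact h2
        have h3 := congrArg (Ideal.map τ.symm.toRingHom) hm
        rw [Ideal.map_map, show τ.symm.toRingHom.comp (Models.stalkHom R (Over.mk ((b ≫ e.hom) ≫ p)) ξ) =
          Models.stalkHom R (Over.mk p) (bb ξ) from RingHom.ext fun r₀ => by
            show τ.symm (Models.stalkHom R (Over.mk (bb ≫ p)) ξ r₀) = _
            rw [← stalkMap_stalkHom bb p ξ r₀]
            exact τ.symm_apply_apply _] at h3
        exact h3.trans (IsLocalRing.map_ringEquiv_maximalIdeal τ.symm)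
      exact mult_eq_one Γ' hkey

/-- A vertical exceptional curve either dies in a minimal model, or the latter has a line as closed fibre. -/
theorem exc_contracted_or_p1 {Z X : Scheme.{u}} {h : Z ⟶ X} (hh : Models.IsContractionSeq h)
    (hC : Curve.IsSmoothProperCurve (FractionRing R) C f) (hH0 : IsIso f.appTop) :
    ∀ (p : X ⟶ Spec (CommRingCat.of R)), Models.IsMinimalModel R X p C f →
      ∀ {E : Scheme.{u}} (ι : E ⟶ Z) [IsClosedImmersion ι], Models.IsExcCurve ι →
        Set.range ι ⊆ (h ≫ p) ⁻¹' {IsLocalRing.closedPoint R} →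
          (∃ x, Set.range (ι ≫ h) = {x}) ∨ P1Fibre R p := by
  induction hh with
  | iso e =>
    intro p hX E ι _ hE hv
    obtain ⟨hint, hN, -, hS⟩ := surface hC hX.1
    have hS' := seq_isRegSurf (Models.IsContractionSeq.iso e) hS
    haveI := hint; haveI := hN; haveI := hS'.integral; haveI := hS'.noeth
    haveI : IsIso (e.hom ∣_ ⊤) := inferInstance
    obtain ⟨hci, hE'⟩ := exists_push e.hom ⊤ ι hE fun _ => trivial
    haveI := hci
    obtain ⟨Γ, -, hΓ⟩ := exists_vertComp p (ι ≫ e.hom) hE' (by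
      rintro _ ⟨a, rfl⟩
      exact hv ⟨a, rfl⟩)
    exact absurd hΓ (hX.2 Γ)
  | @step Z Z₁ X E₁ ι₁ b r hι₁ hE₁ hb hr ih =>
    intro p hX E ι _ hE hv
    obtain ⟨gX, hgX⟩ := hX.1.1.2.2.2
    obtain ⟨g₁, -, -, hZ₁⟩ := seq_model hr hC p hX.1 gX hgX
    obtain ⟨gZ, -, -, hZ⟩ := seq_model (Models.IsContractionSeq.step ι₁ b r hι₁ hE₁ hb hr) hC p hX.1 gX hgX
    obtain ⟨hint₁, hN₁, -, -⟩ := surface hC hZ₁
    obtain ⟨hint, hN, -, -⟩ := surface hC hZ
    haveI := hint₁; haveI := hN₁; haveI := hint; haveI := hN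
    haveI := hι₁
    obtain ⟨-, hbp, y, hy, hr₁, hreg, hdim, hbl⟩ := id hb
    haveI := hbp
    haveI : Nonempty E := haveI := (excCurve_integral hE).1; inferInstance
    have hE₁y : ∀ a, b (ι₁ a) = y := fun a => by
      have h : (ι₁ ≫ b) a ∈ ({y} : Set Z₁) := hr₁ ▸ ⟨a, rfl⟩
      exact h
    by_cases heq : Set.range ι = Set.range ι₁
    · refine Or.inl ⟨r y, Set.Nonempty.subset_singleton_iff (Set.range_nonempty _) |>.1 ?_⟩
      rintro _ ⟨a, rfl⟩
      obtain ⟨a', ha'⟩ := heq.subset ⟨a, rfl⟩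
      show r (b (ι a)) = r y
      rw [← ha', hE₁y]
    by_cases hdisj : Disjoint (Set.range ι) (Set.range ι₁)
    swap
    · exact Or.inr (fibre_of_meet hC hH0 hX.1 b r ι₁ hE₁ hb hr ι hE hv heq hdisj)
    let W : Z₁.Opens := ⟨{y}ᶜ, hy.isOpen_compl⟩
    haveI : IsIso (b ∣_ W) := IsPtBlow.isIso_off (hy := hy) ⟨hreg, hdim, hbl⟩
    obtain ⟨hci, hE'⟩ := exists_push b W ι hE fun a hay => Set.disjoint_left.1 hdisj ⟨a, rfl⟩
      (Groth.L13.Contraction.mem_range_of_apply hE₁ b hy hr₁ hreg hdim hbl (ι a) hay)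
    haveI := hci
    rcases ih p hX (ι ≫ b) hE' (by rintro _ ⟨a, rfl⟩; exact hv ⟨a, rfl⟩) with ⟨x, hx⟩ | hP
    · exact Or.inl ⟨x, by rw [← Category.assoc]; exact hx⟩
    · exact Or.inr hP

/-- A morphism from a blown-up model to a minimal one descends, unless the closed fibre is a line. -/
theorem exists_descend_or_p1 {Z Y : Scheme.{u}} {s : Z ⟶ Y} (hs : Models.IsContractionSeq s)
    (hC : Curve.IsSmoothProperCurve (FractionRing R) C f) (hH0 : IsIso f.appTop)
    {X : Scheme.{u}} {p : X ⟶ Spec (CommRingCat.of R)}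
    (hX : Models.IsMinimalModel R X p C f) {gX : C ⟶ X} (hgX : IsPullback gX f p (gen R)) :
    ∀ (q : Y ⟶ Spec (CommRingCat.of R)), Models.IsRegularProperModel R Y q C f →
      ∀ (gY : C ⟶ Y), IsPullback gY f q (gen R) → ∀ (gZ : C ⟶ Z), IsPullback gZ f (s ≫ q) (gen R) → gZ ≫ s = gY →
        ∀ h : Z ⟶ X, h ≫ p = s ≫ q → gZ ≫ h = gX → (∃ b : Y ⟶ X, b ≫ p = q ∧ gY ≫ b = gX) ∨ P1Fibre R p := by
  haveI : IsIntegral C := hC.2.2.1
  induction hs with
  | iso e =>
    intro q hY gY hgY gZ hgZ hs' h hp hgh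
    exact Or.inl ⟨e.inv ≫ h, by rw [Category.assoc, hp, e.inv_hom_id_assoc],
      by rw [← hs', Category.assoc, e.hom_inv_id_assoc, hgh]⟩
  | @step Z Z₁ Y E ι b r hι hE hb hr ih =>
    intro q hY gY hgY gZ hgZ hs' h hp hgh
    obtain ⟨g₁, hg₁, hg₁r, hZ₁⟩ := seq_model hr hC q hY gY hgY
    obtain ⟨g', -, -, hZ⟩ := seq_model (Models.IsContractionSeq.step ι b r hι hE hb hr) hC q hY gY hgY
    obtain ⟨hint, hN, hdimZ, -⟩ := surface hC hZ
    obtain ⟨hintX, hNX, hdimX, -⟩ := surface hC hX.1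
    haveI := hint; haveI := hN; haveI := hintX; haveI := hNX
    haveI := hX.1.2.1; haveI := hZ.2.1
    haveI : IsProper (h ≫ p) := hp ▸ ‹IsProper ((b ≫ r) ≫ q)›
    haveI : IsProper h := IsProper.of_comp h p
    haveI := isOpenImmersion_model hgX
    have hh : Models.IsContractionSeq h := Groth.Agent.S7314.result h
      ⟨gX.opensRange, Set.range_nonempty _, isIso_over_generic hgZ hgX h hp hgh⟩ hZ.2.2 hdimZ hX.1.2.2 hdimX
    haveI := hι
    obtain ⟨hN₁, hbp, y, hy, hry, -⟩ := id hb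
    haveI := hZ₁.2.1
    have hys := closedPoint_of_closed (r ≫ q) hy
    rcases exc_contracted_or_p1 hh hC hH0 p hX ι hE (by
      rintro _ ⟨a, rfl⟩
      have h1 : b (ι a) = y := by
        have h2 : (ι ≫ b) a ∈ ({y} : Set Z₁) := hry ▸ ⟨a, rfl⟩
        exact h2
      show (h ≫ p) (ι a) = IsLocalRing.closedPoint R
      rw [hp, Category.assoc, Scheme.Hom.comp_apply, h1]
      exact hys) with ⟨x, hx⟩ | hP
    swap
    · exact Or.inr hP
    obtain ⟨h₁, hh₁, -⟩ := Groth.L13.Contraction.existsUnique_desc hE b hb h x hx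
    change b ≫ h₁ = h at hh₁
    obtain ⟨u, -, hu⟩ := Groth.L13.Contraction.existsUnique_desc hE b hb ((b ≫ r) ≫ q) ((r ≫ q) y) (by
      haveI : Nonempty E := haveI := (excCurve_integral hE).1; inferInstance
      refine Set.Nonempty.subset_singleton_iff (Set.range_nonempty _) |>.1 ?_
      rintro _ ⟨a, rfl⟩
      have h2 : (ι ≫ b) a ∈ ({y} : Set Z₁) := hry ▸ ⟨a, rfl⟩
      show (r ≫ q) (b (ι a)) = (r ≫ q) y
      rw [show b (ι a) = y from h2])
    have hp₁ : h₁ ≫ p = r ≫ q :=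
      (hu (h₁ ≫ p) (by show b ≫ h₁ ≫ p = _; rw [reassoc_of% hh₁, hp])).trans
        (hu (r ≫ q) (Category.assoc b r q).symm).symm
    haveI := isOpenImmersion_model hgY
    haveI : IsIso (r ∣_ gY.opensRange) := isIso_over_generic hg₁ hgY r rfl hg₁r
    have hgb : gZ ≫ b = g₁ := Groth.L05.PtSeq.eq_of_mono_over r gY.opensRange
      (by rw [Category.assoc, hs', hg₁r]) fun c => ⟨c, by
        rw [← Scheme.Hom.comp_apply, Category.assoc, hs']⟩
    exact ih q hY gY hgY g₁ hg₁ hg₁r h₁ hp₁ (by rw [← hgb, Category.assoc, hh₁, hgh])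

/-- Two minimal models are isomorphic, or the second has a projective line as closed fibre. -/
theorem iso_or_p1 (hC : Curve.IsSmoothProperCurve (FractionRing R) C f) (hH0 : IsIso f.appTop)
    {A B : Scheme.{u}} {q : A ⟶ Spec (CommRingCat.of R)} {p : B ⟶ Spec (CommRingCat.of R)}
    (hA : Models.IsMinimalModel R A q C f) (hB : Models.IsMinimalModel R B p C f) {gA : C ⟶ A}
    (hgA : IsPullback gA f q (gen R)) {gB : C ⟶ B} (hgB : IsPullback gB f p (gen R)) :
    (∃ e : A ≅ B, e.hom ≫ p = q ∧ gA ≫ e.hom = gB) ∨ P1Fibre R p := by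
  haveI : IsIntegral C := hC.2.2.1
  obtain ⟨hintY, hNY, hdimY, hSY⟩ := surface hC hA.1
  obtain ⟨hintX, hNX, hdimX, -⟩ := surface hC hB.1
  haveI := hintY; haveI := hNY; haveI := hintX; haveI := hNX
  haveI := hB.1.2.1; haveI := hA.1.2.1
  haveI := isOpenImmersion_model hgA; haveI := isOpenImmersion_model hgB
  obtain ⟨Z, s, h, hs, hp, hh⟩ := Groth.L05.PtSeq.exists_resolve hSY q p gA.opensRange (Set.range_nonempty _)
    (gA.isoOpensRange.inv ≫ gB) (by
      rw [Category.assoc, hgB.w, ← hgA.w, Scheme.Hom.isoOpensRange_inv_comp_assoc])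
  obtain ⟨gZ, hgZ, hgs, hZ⟩ := seq_model hs hC q hA.1 gA hgA
  have hgh : gZ ≫ h = gB := by
    have hr : Set.range gZ ⊆ Set.range (s ⁻¹ᵁ gA.opensRange).ι := by
      rintro _ ⟨c, rfl⟩
      rw [Scheme.Opens.range_ι]
      exact ⟨c, by rw [← Scheme.Hom.comp_apply, hgs]⟩
    have h1 : IsOpenImmersion.lift (s ⁻¹ᵁ gA.opensRange).ι gZ hr ≫ (s ∣_ gA.opensRange) =
        gA.isoOpensRange.hom := by
      rw [← cancel_mono gA.opensRange.ι, Category.assoc, morphismRestrict_ι, IsOpenImmersion.lift_fac_assoc,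
        hgs, Scheme.Hom.isoOpensRange_hom_ι]
    rw [← IsOpenImmersion.lift_fac (s ⁻¹ᵁ gA.opensRange).ι gZ hr, Category.assoc, hh, reassoc_of% h1,
      Iso.hom_inv_id_assoc]
  rcases exists_descend_or_p1 hs hC hH0 hB hgB q hA.1 gA hgA gZ hgZ hgs h hp hgh with ⟨b, hb, hgb⟩ | hP
  swap
  · exact Or.inr hP
  haveI : IsProper (b ≫ p) := hb ▸ ‹IsProper q›
  haveI : IsProper b := IsProper.of_comp b p
  have hseq := Groth.Agent.S7314.result b
    ⟨gB.opensRange, Set.range_nonempty _, isIso_over_generic hgA hgB b hb hgb⟩ hA.1.2.2 hdimY hB.1.2.2 hdimX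
  cases hseq with
  | iso e => exact Or.inl ⟨e, hb, hgb⟩
  | step ι b₁ r hι hE hb₁ hr =>
    exfalso
    obtain ⟨g', -, -, hZ₁⟩ := seq_model hr hC p hB.1 gB hgB
    haveI := hZ₁.2.1
    obtain ⟨hN₁, hbp, y, hy, hry, -⟩ := id hb₁
    haveI := hι
    obtain ⟨Γ, -, hΓ⟩ := exists_vertComp q ι hE (by
      rintro _ ⟨a, rfl⟩
      show q (ι a) = _
      rw [← hb, Category.assoc, Scheme.Hom.comp_apply]
      have h2 : (ι ≫ b₁) a ∈ ({y} : Set _) := hry ▸ ⟨a, rfl⟩
      rw [show b₁ (ι a) = y from h2]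
      exact closedPoint_of_closed (r ≫ p) hy)
    exact hA.2 Γ hΓ

end Groth.L05.MinModel
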