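import Groth.Agent.L05.InterPair.Vertical
import Groth.Agent.L05.GeomMult.Basic
import Groth.Agent.L05.PtSeq.Birational
import Groth.Agent.L07.DimToolkit

/-!
# Regular proper models of curves are regular surfaces
-/

set_option autoImplicit false
set_option linter.style.haveILetI false
set_option backward.isDefEq.respectTransparency false

universe u

open CategoryTheory CategoryTheory.Limits AlgebraicGeometry TopologicalSpace

noncomputable section

namespace Groth.L05.MinModel

variable {R : Type u} [CommRing R] [IsDomain R] [IsDiscreteValuationRing R]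
  {C X : Scheme.{u}} {f : C ⟶ Spec (CommRingCat.of (FractionRing R))} {p : X ⟶ Spec (CommRingCat.of R)}
  {g : C ⟶ X}

/-- The inclusion of the generic point. -/
abbrev gen (R : Type u) [CommRing R] [IsDomain R] [IsDiscreteValuationRing R] :
    Spec (CommRingCat.of (FractionRing R)) ⟶ Spec (CommRingCat.of R) :=
  Spec.map (CommRingCat.ofHom (algebraMap R (FractionRing R)))

theorem isOpenImmersion_gen : IsOpenImmersion (gen R) := by
  obtain ⟨ϖ, hϖ⟩ := IsDiscreteValuationRing.exists_irreducible R
  exact (Groth.L05.InterPair.isOpenImmersion_generic R hϖ).1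

theorem range_gen : Set.range (gen R) = {IsLocalRing.closedPoint R}ᶜ := by
  obtain ⟨ϖ, hϖ⟩ := IsDiscreteValuationRing.exists_irreducible R
  rw [(Groth.L05.InterPair.isOpenImmersion_generic R hϖ).2]
  ext s
  show ϖ ∉ (s : PrimeSpectrum R).asIdeal ↔ s ≠ IsLocalRing.closedPoint R
  refine ⟨fun h e => h (by rw [e]; exact (IsLocalRing.mem_maximalIdeal _).2 hϖ.not_isUnit), fun h hm => h ?_⟩
  have hm' : IsLocalRing.maximalIdeal R ≤ (s : PrimeSpectrum R).asIdeal := by
    rw [hϖ.maximalIdeal_eq, Ideal.span_singleton_le_iff_mem]; exact hm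
  exact PrimeSpectrum.ext ((IsLocalRing.maximalIdeal.isMaximal R).eq_of_le
    (s : PrimeSpectrum R).2.ne_top hm').symm

theorem eq_of_ne_closedPoint {s t : Spec (CommRingCat.of R)} (hs : s ≠ IsLocalRing.closedPoint R)
    (ht : t ≠ IsLocalRing.closedPoint R) : s = t := by
  haveI : Subsingleton (Spec (CommRingCat.of (FractionRing R))) :=
    inferInstanceAs (Subsingleton (PrimeSpectrum (FractionRing R)))
  obtain ⟨a, rfl⟩ : s ∈ Set.range (gen R) := by rw [range_gen]; exact hs
  obtain ⟨b, rfl⟩ : t ∈ Set.range (gen R) := by rw [range_gen]; exact ht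
  rw [Subsingleton.elim a b]

theorem isOpenImmersion_model (hg : IsPullback g f p (gen R)) : IsOpenImmersion g := by
  haveI := isOpenImmersion_gen (R := R)
  exact MorphismProperty.of_isPullback (P := @IsOpenImmersion) hg.flip ‹_›

theorem range_model (hg : IsPullback g f p (gen R)) : Set.range g = p ⁻¹' {IsLocalRing.closedPoint R}ᶜ := by
  rw [← range_gen (R := R)]
  ext x
  refine ⟨?_, fun ⟨a, ha⟩ => ?_⟩
  · rintro ⟨c, rfl⟩
    exact ⟨f c, by rw [← Scheme.Hom.comp_apply, ← hg.w, Scheme.Hom.comp_apply]⟩
  · obtain ⟨c, hc, -⟩ := Scheme.exists_preimage_of_isPullback hg x a ha.symm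
    exact ⟨c, hc⟩

/-- Regular proper models of smooth proper curves are integral regular surfaces. -/
theorem surface (hC : Curve.IsSmoothProperCurve (FractionRing R) C f)
    (hX : Models.IsRegularProperModel R X p C f) :
    ∃ _ : IsIntegral X, AlgebraicGeometry.IsNoetherian X ∧ topologicalKrullDim X = 2 ∧
      Groth.L05.PtSeq.IsRegSurf X := by
  obtain ⟨⟨hflat, hft, hqc, g, hg⟩, hproper, hreg⟩ := hX
  haveI : IsIntegral C := hC.2.2.1
  haveI := hflat; haveI := hproper
  haveI : Flat (Over.mk p).hom := hflat
  haveI hint : IsIntegral X := Groth.L05.InterPair.isIntegral_of_model (X := Over.mk p) hreg hg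
  haveI : IsLocallyNoetherian X := LocallyOfFiniteType.isLocallyNoetherian p
  haveI : CompactSpace X := QuasiCompact.compactSpace_of_compactSpace p
  haveI hN : AlgebraicGeometry.IsNoetherian X := ⟨⟩
  haveI := isOpenImmersion_model hg
  have hgen : g (genericPoint C) = genericPoint X := genericPoint_eq_of_isOpenImmersion g
  have hnc : ∀ c : C, p (g c) ≠ IsLocalRing.closedPoint R := fun c => by
    have h : g c ∈ Set.range g := ⟨c, rfl⟩
    rw [range_model hg] at h
    exact h
  have hupper : topologicalKrullDim X ≤ 2 := Groth.L05.PtSeq.dim_le_of_stalks fun x => by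
    have h := genericPoint_specializes x
    obtain ⟨A, B, n, N, hA, hB, -, hN', hle, -⟩ := Groth.L07.DimToolkit.formula p h
    rw [Groth.L07.DimToolkit.dim_locQuot_genericPoint x h] at hA
    have hB1 : B ≤ 1 := by
      have h1 := (Groth.L07.DimToolkit.dim_locQuot_le (p x) (p (genericPoint X)) (h.map p.continuous)).trans
        (Groth.L15.CohFlat.ringKrullDim_stalk_le (p x))
      rw [hB, show topologicalKrullDim (Spec (CommRingCat.of R)) = 1 from
        (PrimeSpectrum.topologicalKrullDim_eq_ringKrullDim R).trans (IsDiscreteValuationRing.ringKrullDim_eq_one R)] at h1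
      exact_mod_cast h1
    have hN1 : N ≤ 1 := by
      have hsub : closure ({genericPoint X} : Set X) ∩ p ⁻¹' {p (genericPoint X)} = Set.range g := by
        rw [genericPoint_closure, Set.univ_inter, range_model hg]
        ext y
        refine ⟨fun (hy : p y = _) => ?_, fun (hy : p y ≠ _) => ?_⟩
        · show p y ≠ _
          rw [hy, ← hgen]; exact hnc _
        · exact eq_of_ne_closedPoint hy (hgen ▸ hnc (genericPoint C))
      have h1 : Groth.L07.Equidim.fdim p (genericPoint X) = 1 := by
        show topologicalKrullDim ↥(closure ({genericPoint X} : Set X) ∩ p ⁻¹' {p (genericPoint X)}) = 1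
        rw [hsub, ← IsHomeomorph.topologicalKrullDim_eq _ g.isOpenEmbedding.isEmbedding.toHomeomorph.isHomeomorph]
        exact hC.2.2.2
      rw [hN'] at h1
      exact_mod_cast h1.le
    rw [hA]
    exact_mod_cast (show A ≤ 2 by omega)
  obtain ⟨c, hc⟩ : ∃ c : C, c ≠ genericPoint C := by
    by_contra hall
    push Not at hall
    haveI : Subsingleton C := ⟨fun a b => (hall a).trans (hall b).symm⟩
    haveI : DiscreteTopology C := Subsingleton.discreteTopology
    have h0 := topologicalKrullDim_zero_of_discreteTopology C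
    rw [hC.2.2.2] at h0
    exact absurd h0 (by decide)
  obtain ⟨z, hz, hpz⟩ : ∃ z ∈ closure ({g c} : Set X), p z = IsLocalRing.closedPoint R :=
    show IsLocalRing.closedPoint R ∈ p '' closure ({g c} : Set X) from (p.isClosedMap _ isClosed_closure).closure_subset_iff.2
      (Set.singleton_subset_iff.2 ⟨g c, subset_closure (Set.mem_singleton (g c)), rfl⟩)
      (specializes_iff_mem_closure.1 (IsLocalRing.specializes_closedPoint (p (g c))))
  have h1 := Groth.L03.BlowPt.Factor.dim_add_one_le (genericPoint_specializes (g c)) fun h =>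
    hc (g.isOpenEmbedding.injective (h.symm.trans hgen.symm))
  have h2 := Groth.L03.BlowPt.Factor.dim_add_one_le (specializes_iff_mem_closure.2 hz) fun h => hnc c (h ▸ hpz)
  rw [Groth.L05.PtSeq.dim_stalk_genericPoint, zero_add] at h1
  have hlower : 2 ≤ topologicalKrullDim X :=
    ((show (2 : WithBot ℕ∞) = 1 + 1 by norm_num).le.trans ((add_le_add h1 le_rfl).trans h2)).trans
      (Groth.L15.CohFlat.ringKrullDim_stalk_le z)
  exact ⟨hint, hN, le_antisymm hupper hlower, ⟨hint, hN, hreg, hupper⟩⟩

end Groth.L05.MinModel
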