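import Groth.Agent.L05.MinModel.Basic
import Groth.Agent.L05.PtSeq.DomLocal
import Groth.Agent.L05.GeomMult.Components
import Groth.Agent.L05.InterPair.Negative
import Groth.Agent.L03.BlowPt.PullDiv
import Groth.Agent.L22.Div.Stalk
import Groth.Agent.L22.MaximalPoints
import Groth.Agent.S3327

/-!
# Exceptional curves on regular proper models
-/

set_option autoImplicit false
set_option linter.style.haveILetI false
set_option backward.isDefEq.respectTransparency false

universe u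

open CategoryTheory CategoryTheory.Limits AlgebraicGeometry TopologicalSpace

noncomputable section

namespace Groth.L05.MinModel

theorem excCurve_integral {E Z : Scheme.{u}} {ι : E ⟶ Z} (hE : Models.IsExcCurve ι) :
    IsIntegral E ∧ topologicalKrullDim E = 1 := by
  obtain ⟨-, k, _, e, -⟩ := hE
  haveI : IsIntegral (CohB1.ProjSpace 1 k) := Groth.L16.ProjSpace.isIntegral (n := 1) (R := k)
  haveI : Nonempty E := ⟨e.hom (genericPoint (CohB1.ProjSpace 1 k))⟩
  refine ⟨isIntegral_of_isOpenImmersion e.inv, ?_⟩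
  rw [← IsHomeomorph.topologicalKrullDim_eq _ e.hom.homeomorph.isHomeomorph,
    Groth.L16.ProjSpace.topologicalKrullDim_eq_of_field (n := 1) k, Nat.cast_one]

variable {R : Type u} [CommRing R] [IsDomain R] [IsDiscreteValuationRing R]

/-- An exceptional curve in the closed fibre is a vertical curve. -/
theorem exists_vertComp {E Z : Scheme.{u}} (p : Z ⟶ Spec (CommRingCat.of R)) (ι : E ⟶ Z) [hι : IsClosedImmersion ι]
    (hE : Models.IsExcCurve ι) (hv : Set.range ι ⊆ p ⁻¹' {IsLocalRing.closedPoint R}) :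
    ∃ Γ : ArSurf.VertComp R (Over.mk p), Set.range (Γ.ι.base : Γ.curve.left → Z) = Set.range ι ∧
      Models.IsExcCurve Γ.ι := by
  obtain ⟨hint, hdim⟩ := excCurve_integral hE
  haveI := hint
  obtain ⟨l, hl⟩ := Groth.L05.PtSeq.exists_lift_closed (Groth.L05.GeomMult.pt R) (ι ≫ p) (by
    rw [Groth.L05.GeomMult.range_pt]
    rintro _ ⟨x, rfl⟩
    exact hv ⟨x, rfl⟩)
  exact ⟨{ curve := Over.mk l, ι := ι, isClosedImmersion := hι, isIntegral := hint, dim_eq := hdim,
           w := hl.symm }, rfl, hE⟩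

/-- Exceptional curves which a morphism does not touch push forward. -/
theorem exists_push {E Z Z₁ : Scheme.{u}} [IsIntegral Z] [IsIntegral Z₁] [IsLocallyNoetherian Z₁]
    [IsLocallyNoetherian Z] (b : Z ⟶ Z₁) [IsProper b] (W : Z₁.Opens) [IsIso (b ∣_ W)]
    (ι : E ⟶ Z) [IsClosedImmersion ι] (hE : Models.IsExcCurve ι) (hW : ∀ e, b (ι e) ∈ W) :
    IsClosedImmersion (ι ≫ b) ∧ Models.IsExcCurve (ι ≫ b) := by
  obtain ⟨hC, k, hk, iso, ⟨τ⟩⟩ := hE
  have hEW : Set.range ι ⊆ Set.range (b ⁻¹ᵁ W).ι := by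
    rintro _ ⟨e, rfl⟩; rw [Scheme.Opens.range_ι]; exact hW e
  haveI : IsProper (ι ≫ b) := inferInstance
  haveI : IsImmersion (ι ≫ b) := by
    let l := IsOpenImmersion.lift (b ⁻¹ᵁ W).ι ι hEW
    haveI : IsImmersion (l ≫ (b ⁻¹ᵁ W).ι) := by rw [IsOpenImmersion.lift_fac]; infer_instance
    haveI : IsImmersion l := IsImmersion.of_comp l (b ⁻¹ᵁ W).ι
    rw [← IsOpenImmersion.lift_fac (b ⁻¹ᵁ W).ι ι hEW, Category.assoc, ← morphismRestrict_ι]
    infer_instance
  have hci : IsClosedImmersion (ι ≫ b) :=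
    IsClosedImmersion.of_isPreimmersion _ (ι ≫ b).isClosedMap.isClosed_range
  haveI := hci
  refine ⟨hci, ?_⟩
  let kk : E ⟶ pullback b (ι ≫ b) := pullback.lift ι (𝟙 E) (Category.id_comp _).symm
  have hk1 : pullback.fst b (ι ≫ b) = pullback.snd b (ι ≫ b) ≫ ι := by
    refine Groth.L05.PtSeq.eq_of_mono_over b W (by rw [pullback.condition, Category.assoc]) fun r => ?_
    rw [← Scheme.Hom.comp_apply, pullback.condition, Scheme.Hom.comp_apply]
    exact hW _
  haveI : IsIso kk := ⟨pullback.snd b (ι ≫ b), pullback.lift_snd _ _ _, pullback.hom_ext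
    (by rw [Category.assoc, pullback.lift_fst, Category.id_comp, ← hk1])
    (by rw [Category.assoc, pullback.lift_snd, Category.id_comp, Category.comp_id])⟩
  have hker : (ι ≫ b).ker.comap b = ι.ker := by
    rw [← Scheme.IdealSheafData.ker_fst_of_isClosedImmersion, ← Scheme.Hom.ker_comp_of_isIso kk, pullback.lift_fst]
  have hsupp : ((ι ≫ b).ker.support : Set Z₁) = Set.range (ι ≫ b) := by
    rw [Scheme.Hom.support_ker, (ι ≫ b).isClosedEmbedding.isClosed_range.closure_eq]
  have hC' : BlowUp.IsEffCartierIdeal (ι ≫ b).ker := by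
    intro w
    by_cases hw : w ∈ ((ι ≫ b).ker.support : Set Z₁)
    · obtain ⟨e, rfl⟩ := hsupp.subset hw
      haveI := Groth.L05.PtSeq.isIso_stalkMap_of_restrict b W (hW e)
      obtain ⟨t, ht, hte⟩ := Groth.L05.PtSeq.stI_isPrincipal hC (ι e)
      rw [← hker, Groth.L05.PtSeq.stI_comap] at hte
      let σ := (asIso (b.stalkMap (ι e))).commRingCatIsoToRingEquiv
      have hspan : Groth.L05.PtSeq.stI (ι ≫ b).ker (b (ι e)) = Ideal.span {σ.symm t} := by
        have h := congrArg (Ideal.map σ.symm.toRingHom) hte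
        rw [Ideal.map_map, Ideal.map_span, Set.image_singleton,
          show σ.symm.toRingHom.comp (b.stalkMap (ι e)).hom = RingHom.id _ from
            RingHom.ext fun a => σ.symm_apply_apply a, Ideal.map_id] at h
        exact h
      obtain ⟨U, hU⟩ : ∃ U : Z₁.affineOpens, b (ι e) ∈ U.1 := Groth.L05.PtSeq.exists_affine (b (ι e))
      rw [Groth.L05.PtSeq.stI_eq _ U hU] at hspan
      obtain ⟨V, hV, a, ha, haV⟩ := Groth.L22.Div.exists_principal_nhd (ι ≫ b).ker U _ hU (σ.symm t) hspan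
        (mem_nonZeroDivisors_of_ne_zero fun h0 => nonZeroDivisors.ne_zero ht (by
          simpa using congrArg σ h0))
      exact ⟨V, hV, a, ha, haV⟩
    · obtain ⟨_, ⟨V, hV, rfl⟩, hxV, hVle⟩ := Z₁.isBasis_affineOpens.exists_subset_of_mem_open
        (show w ∈ ((ι ≫ b).ker.support : Set Z₁)ᶜ from hw) (ι ≫ b).ker.support.isClosed.isOpen_compl
      refine ⟨⟨V, hV⟩, hxV, 1, one_mem _, ?_⟩
      rw [Ideal.span_singleton_one]
      exact Groth.L22.CartierDecomp.ideal_eq_top fun z hz => hVle hz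
  have hη : b (genericPoint Z) ∉ (ι ≫ b).ker.support := fun h => by
    obtain ⟨e, he⟩ := hsupp.subset h
    have h1 : ι e = genericPoint Z := Groth.L05.RelMinExists.eq_of_isIso_restrict' b W (hW e) he
    exact Groth.L22.notMem_support_of_maximal hC (x := genericPoint Z)
      (fun y hy => (hy.antisymm (genericPoint_specializes y)).eq)
      (show genericPoint Z ∈ (ι.ker.support : Set Z) by rw [Scheme.Hom.support_ker]; exact subset_closure ⟨e, h1⟩)
  obtain ⟨-, ⟨α⟩⟩ := Groth.L03.BlowPt.nonempty_pullback_idealMod b hC' hη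
  rw [hker] at α
  refine ⟨hC', k, hk, iso, ⟨?_ ≪≫ τ⟩⟩
  exact (Scheme.Modules.pullbackCongr (Category.assoc iso.hom ι b).symm).app _ ≪≫
    ((Scheme.Modules.pullbackComp (iso.hom ≫ ι) b).app _).symm ≪≫
    (Scheme.Modules.pullback (iso.hom ≫ ι)).mapIso α

/-- Two different exceptional curves of a regular proper model meet only in genus zero. -/
theorem genus_zero_of_meet {C Z E₁ E₂ : Scheme.{u}} {f : C ⟶ Spec (CommRingCat.of (FractionRing R))}
    {p : Z ⟶ Spec (CommRingCat.of R)} (hC : Curve.IsSmoothProperCurve (FractionRing R) C f) (hH0 : IsIso f.appTop)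
    (hZ : Models.IsRegularProperModel R Z p C f) (ι₁ : E₁ ⟶ Z) [IsClosedImmersion ι₁] (h₁ : Models.IsExcCurve ι₁)
    (hv₁ : Set.range ι₁ ⊆ p ⁻¹' {IsLocalRing.closedPoint R}) (ι₂ : E₂ ⟶ Z) [IsClosedImmersion ι₂]
    (h₂ : Models.IsExcCurve ι₂) (hv₂ : Set.range ι₂ ⊆ p ⁻¹' {IsLocalRing.closedPoint R})
    (hne : Set.range ι₁ ≠ Set.range ι₂) (hmeet : ¬ Disjoint (Set.range ι₁) (Set.range ι₂)) :
    Models.curveGenus (FractionRing R) C f = 0 := by
  classical
  obtain ⟨hint, hN, hdim, -⟩ := surface hC hZ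
  haveI := hint
  haveI : Flat (Over.mk p).hom := hZ.1.1
  haveI : IsProper (Over.mk p).hom := hZ.2.1
  haveI : IsIntegral (Over.mk p).left := hint
  haveI : LocallyOfFiniteType p := hZ.1.2.1
  haveI : IsLocallyNoetherian (Over.mk p).left := LocallyOfFiniteType.isLocallyNoetherian p
  have hreg : Models.IsRegularScheme (Over.mk p).left := hZ.2.2
  obtain ⟨Γ₁, hr₁, he₁⟩ := exists_vertComp p ι₁ h₁ hv₁
  obtain ⟨Γ₂, hr₂, he₂⟩ := exists_vertComp p ι₂ h₂ hv₂
  obtain ⟨n, Γ, hΓ, -⟩ := Groth.L05.GeomMult.exists_componentList (X := Over.mk p) hdim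
  have key : ∀ Δ : ArSurf.VertComp R (Over.mk p), Set.range (Δ.ι.base : Δ.curve.left → Z) ⊆ p ⁻¹' {IsLocalRing.closedPoint R} →
      ∃ i, Set.range ((Γ i).ι.base : (Γ i).curve.left → Z) = Set.range (Δ.ι.base : Δ.curve.left → Z) := by
    intro Δ hΔ
    obtain ⟨i, hi⟩ := Groth.L05.FibreDecomp.exists_component (X := Over.mk p) hΓ
      (x := Models.genPtOf R (Over.mk p) Δ) (hΔ ⟨_, rfl⟩)
    have h := Groth.L05.InterPair.eq_of_mem_support hreg hdim (Γ := Δ) (Γ' := Γ i)
      (by rw [Groth.L05.FibreDecomp.support_ker]; exact hi)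
    refine ⟨i, ?_⟩
    rw [← Groth.L05.FibreDecomp.support_ker, ← Groth.L05.FibreDecomp.support_ker, h]
  obtain ⟨i, hi⟩ := key Γ₁ (hr₁ ▸ hv₁)
  obtain ⟨j, hj⟩ := key Γ₂ (hr₂ ▸ hv₂)
  have hij : i ≠ j := fun h => hne (by rw [← hr₁, ← hr₂, ← hi, ← hj, h])
  let Γ' := Function.update (Function.update Γ i Γ₁) j Γ₂
  have hsame : ∀ l, Set.range ((Γ' l).ι.base : (Γ' l).curve.left → Z) =
      Set.range ((Γ l).ι.base : (Γ l).curve.left → Z) := fun l => by
    by_cases hlj : l = j
    · rw [show Γ' l = Γ₂ by simp [Γ', hlj]]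
      subst hlj
      exact hj.symm
    · by_cases hli : l = i
      · rw [show Γ' l = Γ₁ by subst hli; simp [Γ', Function.update_of_ne hlj]]
        subst hli
        exact hi.symm
      · rw [show Γ' l = Γ l by simp [Γ', Function.update_of_ne hlj, Function.update_of_ne hli]]
  have hΓ' : Models.IsComponentList R (Over.mk p) Γ' := by
    have h : (fun l => Set.range ((Γ' l).ι.base : (Γ' l).curve.left → (Over.mk p).left)) =
        fun l => Set.range ((Γ l).ι.base : (Γ l).curve.left → (Over.mk p).left) := funext hsame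
    unfold Models.IsComponentList
    rw [h]
    exact hΓ
  have hΓi : Γ' i = Γ₁ := by simp [Γ', Function.update_of_ne hij]
  have hΓj : Γ' j = Γ₂ := by simp [Γ']
  exact (Groth.Agent.S3327.result R C Z f p hC hH0 hZ Γ' hΓ' i j hij (by rw [hΓi]; exact he₁)
    (by rw [hΓj]; exact he₂) (by rw [hΓi, hΓj, hr₁, hr₂]; exact hmeet)).2.2.2.2

end Groth.L05.MinModel
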