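import Groth.Agent.L05.MinModel.Exc
import Groth.Agent.L05.PtSeq.Rational
import Groth.Agent.L02.Misc.STD
import Groth.Agent.L07.SyntOverField
import Groth.Agent.L13.Contraction.Universal
import Groth.Agent.S7314

/-!
# The minimal model of a curve of positive genus
-/

set_option autoImplicit false
set_option linter.style.haveILetI false
set_option backward.isDefEq.respectTransparency false

universe u

open CategoryTheory CategoryTheory.Limits AlgebraicGeometry TopologicalSpace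

noncomputable section

namespace Groth.L05.MinModel

open Groth.L05.PtSeq (IsRegSurf IsPtBlow)

theorem seq_isRegSurf {Z X : Scheme.{u}} {h : Z ⟶ X} (hh : Models.IsContractionSeq h) (hX : IsRegSurf X) :
    IsRegSurf Z := by
  induction hh with
  | iso e =>
    haveI := hX.integral; haveI := hX.noeth
    haveI := Groth.L05.PtSeq.seq_isNoetherian (Models.IsContractionSeq.iso e)
    refine ⟨?_, inferInstance, fun z => ?_, ?_⟩
    · haveI : Nonempty _ := ⟨e.inv (genericPoint _)⟩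
      exact isIntegral_of_isOpenImmersion e.hom
    · haveI := hX.reg (e.hom z)
      exact IsRegularLocalRing.of_ringEquiv (asIso (e.hom.stalkMap z)).commRingCatIsoToRingEquiv
    · exact (IsHomeomorph.topologicalKrullDim_eq _ e.hom.homeomorph.isHomeomorph).trans_le hX.dim
  | step ι b r hι hE hb hr ih =>
    obtain ⟨hN, y, hy, hbl⟩ := Groth.L05.PtSeq.isPtBlow_of_contraction hb
    obtain ⟨_, _, h, -⟩ := (ih hX).blowUp hbl
    exact h

variable {R : Type u} [CommRing R] [IsDomain R] [IsDiscreteValuationRing R]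
  {C : Scheme.{u}} {f : C ⟶ Spec (CommRingCat.of (FractionRing R))}

/-- Morphisms of models compatible on the generic fibre are isomorphisms there. -/
theorem isIso_over_generic {Z X : Scheme.{u}} {q : Z ⟶ Spec (CommRingCat.of R)}
    {p : X ⟶ Spec (CommRingCat.of R)} {gZ : C ⟶ Z} {gX : C ⟶ X} (hZ : IsPullback gZ f q (gen R))
    (hX : IsPullback gX f p (gen R)) (h : Z ⟶ X) (hp : h ≫ p = q) (hg : gZ ≫ h = gX) :
    haveI := isOpenImmersion_model hX; IsIso (h ∣_ gX.opensRange) := by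
  haveI := isOpenImmersion_model hX
  haveI := isOpenImmersion_model hZ
  have hr : Set.range gZ = Set.range (h ⁻¹ᵁ gX.opensRange).ι := by
    rw [Scheme.Opens.range_ι]
    show Set.range gZ = h ⁻¹' Set.range gX
    rw [range_model hZ, range_model hX, ← Set.preimage_comp, ← hp]
    rfl
  let a := IsOpenImmersion.isoOfRangeEq gZ (h ⁻¹ᵁ gX.opensRange).ι hr
  have ha : a.hom ≫ (h ∣_ gX.opensRange) = gX.isoOpensRange.hom := by
    rw [← cancel_mono gX.opensRange.ι, Category.assoc, morphismRestrict_ι, IsOpenImmersion.isoOfRangeEq_hom_fac_assoc,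
      hg, Scheme.Hom.isoOpensRange_hom_ι]
  rw [show h ∣_ gX.opensRange = a.inv ≫ gX.isoOpensRange.hom by rw [← ha, a.inv_hom_id_assoc]]
  infer_instance

theorem flat_model {Z : Scheme.{u}} [IsIntegral Z] [AlgebraicGeometry.IsNoetherian Z] [IsIntegral C]
    {q : Z ⟶ Spec (CommRingCat.of R)} {gZ : C ⟶ Z} (hZ : IsPullback gZ f q (gen R)) : Flat q := by
  haveI := isOpenImmersion_model hZ
  haveI : IsDominant gZ := ⟨gZ.isOpenEmbedding.isOpen_range.dense (Set.range_nonempty _)⟩
  haveI : IsSchemeTheoreticallyDominant gZ := IsSchemeTheoreticallyDominant.of_isDominant gZ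
  haveI : Flat (gZ ≫ q) := by
    rw [hZ.w]
    haveI := isOpenImmersion_gen (R := R)
    haveI : Flat f := Groth.L07.SyntOverField.flat_over_field f
    infer_instance
  exact Groth.L02.STD.flat_of_dominant R gZ q

/-- Sequences of contractions onto a model are models. -/
theorem seq_model {Z X : Scheme.{u}} {h : Z ⟶ X} (hh : Models.IsContractionSeq h)
    (hC : Curve.IsSmoothProperCurve (FractionRing R) C f) :
    ∀ (p : X ⟶ Spec (CommRingCat.of R)), Models.IsRegularProperModel R X p C f →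
      ∀ (gX : C ⟶ X), IsPullback gX f p (gen R) → ∃ gZ : C ⟶ Z,
        IsPullback gZ f (h ≫ p) (gen R) ∧ gZ ≫ h = gX ∧ Models.IsRegularProperModel R Z (h ≫ p) C f := by
  haveI : IsIntegral C := hC.2.2.1
  induction hh with
  | iso e =>
    intro p hX gX hgX
    obtain ⟨-, -, -, hS⟩ := surface hC hX
    have hS' := seq_isRegSurf (Models.IsContractionSeq.iso e) hS
    haveI := hS'.integral; haveI := hS'.noeth
    haveI := hX.2.1
    have hpb : IsPullback (gX ≫ e.inv) f (e.hom ≫ p) (gen R) :=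
      hgX.of_iso (Iso.refl _) e.symm (Iso.refl _) (Iso.refl _) (by simp) (by simp) (by simp) (by simp)
    exact ⟨gX ≫ e.inv, hpb, by simp,
      ⟨flat_model hpb, inferInstance, inferInstance, _, hpb⟩, inferInstance, hS'.reg⟩
  | @step Z Z₁ X E ι b r hι hE hb hr ih =>
    intro p hX gX hgX
    obtain ⟨g₁, hg₁, hg₁r, hZ₁⟩ := ih p hX gX hgX
    obtain ⟨-, -, -, hS₁⟩ := surface hC hZ₁
    obtain ⟨hN, y, hy, hbl⟩ := Groth.L05.PtSeq.isPtBlow_of_contraction hb
    obtain ⟨_, _, hS, -⟩ := hS₁.blowUp hbl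
    haveI := hS.noeth
    haveI := hbl.isProper
    haveI := hZ₁.2.1
    haveI := isOpenImmersion_model hg₁
    have hys : (r ≫ p) y = IsLocalRing.closedPoint R := by
      have h1 : IsClosed ({(r ≫ p) y} : Set (Spec (CommRingCat.of R))) := by
        simpa using (r ≫ p).isClosedMap _ hy
      exact (h1.closure_eq.subset (specializes_iff_mem_closure.1 (IsLocalRing.specializes_closedPoint ((r ≫ p) y)))).symm
    let U := g₁.opensRange
    haveI : IsIso (b ∣_ U) := by
      haveI := hbl.isIso_off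
      refine Groth.L13.Contraction.isIso_restrict_mono b (C := (⟨{y}ᶜ, hy.isOpen_compl⟩ : Z₁.Opens)) ?_
      intro z hz hzy
      have hz' : z ∈ Set.range g₁ := hz
      rw [range_model hg₁, show z = y from hzy] at hz'
      exact hz' hys
    let gZ : C ⟶ Z := g₁.isoOpensRange.hom ≫ inv (b ∣_ U) ≫ (b ⁻¹ᵁ U).ι
    have hgb : gZ ≫ b = g₁ := by
      show (g₁.isoOpensRange.hom ≫ inv (b ∣_ U) ≫ (b ⁻¹ᵁ U).ι) ≫ b = g₁
      rw [Category.assoc, Category.assoc, ← morphismRestrict_ι, IsIso.inv_hom_id_assoc,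
        Scheme.Hom.isoOpensRange_hom_ι]
    haveI : IsOpenImmersion gZ := inferInstance
    haveI := isOpenImmersion_gen (R := R)
    have hgp : gZ ≫ (b ≫ r) ≫ p = f ≫ gen R := by
      refine (congrArg (gZ ≫ ·) (Category.assoc b r p)).trans ((Category.assoc gZ b (r ≫ p)).symm.trans ?_)
      rw [hgb]; exact hg₁.w
    have hpb : IsPullback gZ f ((b ≫ r) ≫ p) (gen R) := by
      refine (IsOpenImmersion.isPullback f gZ (gen R) ((b ≫ r) ≫ p) hgp (Opens.ext ?_)).flip
      show ((b ≫ r) ≫ p) ⁻¹' Set.range (gen R) = Set.range gZ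
      have h1 : Set.range gZ = b ⁻¹' Set.range g₁ := by
        show Set.range (g₁.isoOpensRange.hom ≫ inv (b ∣_ U) ≫ (b ⁻¹ᵁ U).ι) = _
        rw [← Category.assoc, Scheme.Hom.comp_base, TopCat.coe_comp, Set.range_comp,
          show Set.range ⇑(g₁.isoOpensRange.hom ≫ inv (b ∣_ U)) = Set.univ from
            (g₁.isoOpensRange.hom ≫ inv (b ∣_ U)).homeomorph.surjective.range_eq, Set.image_univ,
          Scheme.Opens.range_ι]
        rfl
      rw [h1, range_model hg₁, range_gen, ← Set.preimage_comp]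
      rfl
    haveI := Groth.L05.PtSeq.seq_isProper hr
    haveI := hX.2.1
    haveI : IsProper ((b ≫ r) ≫ p) := inferInstance
    haveI := hS.integral
    exact ⟨gZ, hpb, by rw [← Category.assoc, hgb, hg₁r],
      ⟨flat_model hpb, inferInstance, inferInstance, _, hpb⟩, inferInstance, hS.reg⟩

/-- In positive genus every exceptional curve dies in a minimal model. -/
theorem exc_contracted {Z X : Scheme.{u}} {h : Z ⟶ X} (hh : Models.IsContractionSeq h)
    (hC : Curve.IsSmoothProperCurve (FractionRing R) C f) (hH0 : IsIso f.appTop)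
    (hg : 0 < Models.curveGenus (FractionRing R) C f) :
    ∀ (p : X ⟶ Spec (CommRingCat.of R)), Models.IsMinimalModel R X p C f →
      ∀ {E : Scheme.{u}} (ι : E ⟶ Z) [IsClosedImmersion ι], Models.IsExcCurve ι →
        Set.range ι ⊆ (h ≫ p) ⁻¹' {IsLocalRing.closedPoint R} → ∃ x, Set.range (ι ≫ h) = {x} := by
  induction hh with
  | iso e =>
    intro p hX E ι _ hE hv
    obtain ⟨hint, hN, -, hS⟩ := surface hC hX.1
    have hS' := seq_isRegSurf (Models.IsContractionSeq.iso e) hS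
    haveI := hint; haveI := hN; haveI := hS'.integral; haveI := hS'.noeth
    haveI : IsIso (e.hom ∣_ ⊤) := inferInstance
    obtain ⟨hci, hE'⟩ := exists_push e.hom ⊤ ι hE fun _ => trivial
    haveI := hci
    obtain ⟨Γ, -, hΓ⟩ := exists_vertComp p (ι ≫ e.hom) hE' (by
      rintro _ ⟨a, rfl⟩
      exact hv ⟨a, rfl⟩)
    exact absurd hΓ (hX.2 Γ)
  | @step Z Z₁ X E₁ ι₁ b r hι₁ hE₁ hb hr ih =>
    intro p hX E ι _ hE hv
    obtain ⟨-, -, -, hS⟩ := surface hC hX.1
    obtain ⟨gX, hgX⟩ := hX.1.1.2.2.2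
    obtain ⟨g₁, -, -, hZ₁⟩ := seq_model hr hC p hX.1 gX hgX
    obtain ⟨gZ, -, -, hZ⟩ := seq_model (Models.IsContractionSeq.step ι₁ b r hι₁ hE₁ hb hr) hC p hX.1 gX hgX
    obtain ⟨hint₁, hN₁, -, -⟩ := surface hC hZ₁
    obtain ⟨hint, hN, -, -⟩ := surface hC hZ
    haveI := hint₁; haveI := hN₁; haveI := hint; haveI := hN
    haveI := hι₁
    obtain ⟨-, hbp, y, hy, hr₁, hreg, hdim, hbl⟩ := hb
    haveI := hbp
    haveI : Nonempty E := haveI := (excCurve_integral hE).1; inferInstance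
    have hE₁y : ∀ a, b (ι₁ a) = y := fun a => by
      have h : (ι₁ ≫ b) a ∈ ({y} : Set Z₁) := hr₁ ▸ ⟨a, rfl⟩
      exact h
    by_cases heq : Set.range ι = Set.range ι₁
    · refine ⟨r y, Set.Nonempty.subset_singleton_iff (Set.range_nonempty _) |>.1 ?_⟩
      rintro _ ⟨a, rfl⟩
      obtain ⟨a', ha'⟩ := heq.subset ⟨a, rfl⟩
      show r (b (ι a)) = r y
      rw [← ha', hE₁y]
    have hys : (r ≫ p) y = IsLocalRing.closedPoint R := by
      haveI := hZ₁.2.1
      have h1 : IsClosed ({(r ≫ p) y} : Set (Spec (CommRingCat.of R))) := by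
        simpa using (r ≫ p).isClosedMap _ hy
      exact (h1.closure_eq.subset (specializes_iff_mem_closure.1 (IsLocalRing.specializes_closedPoint ((r ≫ p) y)))).symm
    have hv₁ : Set.range ι₁ ⊆ ((b ≫ r) ≫ p) ⁻¹' {IsLocalRing.closedPoint R} := by
      rintro _ ⟨a, rfl⟩
      show (r ≫ p) (b (ι₁ a)) = IsLocalRing.closedPoint R
      rw [hE₁y]; exact hys
    have hdisj : Disjoint (Set.range ι) (Set.range ι₁) := by
      by_contra hmeet
      exact hg.ne' (genus_zero_of_meet hC hH0 hZ ι hE hv ι₁ hE₁ hv₁ heq hmeet)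
    let W : Z₁.Opens := ⟨{y}ᶜ, hy.isOpen_compl⟩
    haveI : IsIso (b ∣_ W) := IsPtBlow.isIso_off (hy := hy) ⟨hreg, hdim, hbl⟩
    obtain ⟨hci, hE'⟩ := exists_push b W ι hE fun a hay => Set.disjoint_left.1 hdisj ⟨a, rfl⟩
      (Groth.L13.Contraction.mem_range_of_apply hE₁ b hy hr₁ hreg hdim hbl (ι a) hay)
    haveI := hci
    obtain ⟨x, hx⟩ := ih p hX (ι ≫ b) hE' (by rintro _ ⟨a, rfl⟩; exact hv ⟨a, rfl⟩)
    exact ⟨x, by rw [← Category.assoc]; exact hx⟩

/-- A morphism from a blown-up model to a minimal one descends. -/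
theorem exists_descend {Z Y : Scheme.{u}} {s : Z ⟶ Y} (hs : Models.IsContractionSeq s)
    (hC : Curve.IsSmoothProperCurve (FractionRing R) C f) (hH0 : IsIso f.appTop)
    (hg : 0 < Models.curveGenus (FractionRing R) C f) {X : Scheme.{u}} {p : X ⟶ Spec (CommRingCat.of R)}
    (hX : Models.IsMinimalModel R X p C f) {gX : C ⟶ X} (hgX : IsPullback gX f p (gen R)) :
    ∀ (q : Y ⟶ Spec (CommRingCat.of R)), Models.IsRegularProperModel R Y q C f →
      ∀ (gY : C ⟶ Y), IsPullback gY f q (gen R) → ∀ (gZ : C ⟶ Z), IsPullback gZ f (s ≫ q) (gen R) → gZ ≫ s = gY →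
        ∀ h : Z ⟶ X, h ≫ p = s ≫ q → gZ ≫ h = gX → ∃ b : Y ⟶ X, b ≫ p = q ∧ gY ≫ b = gX := by
  haveI : IsIntegral C := hC.2.2.1
  induction hs with
  | iso e =>
    intro q hY gY hgY gZ hgZ hs' h hp hgh
    exact ⟨e.inv ≫ h, by rw [Category.assoc, hp, e.inv_hom_id_assoc],
      by rw [← hs', Category.assoc, e.hom_inv_id_assoc, hgh]⟩
  | @step Z Z₁ Y E ι b r hι hE hb hr ih =>
    intro q hY gY hgY gZ hgZ hs' h hp hgh
    obtain ⟨g₁, hg₁, hg₁r, hZ₁⟩ := seq_model hr hC q hY gY hgY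
    obtain ⟨g', -, -, hZ⟩ := seq_model (Models.IsContractionSeq.step ι b r hι hE hb hr) hC q hY gY hgY
    obtain ⟨hint, hN, hdimZ, -⟩ := surface hC hZ
    obtain ⟨hintX, hNX, hdimX, -⟩ := surface hC hX.1
    haveI := hint; haveI := hN; haveI := hintX; haveI := hNX
    haveI := hX.1.2.1; haveI := hZ.2.1
    haveI : IsProper (h ≫ p) := hp ▸ ‹IsProper ((b ≫ r) ≫ q)›
    haveI : IsProper h := IsProper.of_comp h p
    haveI := isOpenImmersion_model hgX
    have hh : Models.IsContractionSeq h := Groth.Agent.S7314.result h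
      ⟨gX.opensRange, Set.range_nonempty _, isIso_over_generic hgZ hgX h hp hgh⟩ hZ.2.2 hdimZ hX.1.2.2 hdimX
    haveI := hι
    obtain ⟨hN₁, hbp, y, hy, hry, -⟩ := id hb
    haveI := hZ₁.2.1
    have hys : (r ≫ q) y = IsLocalRing.closedPoint R := by
      have h1 : IsClosed ({(r ≫ q) y} : Set (Spec (CommRingCat.of R))) := by
        simpa using (r ≫ q).isClosedMap _ hy
      exact (h1.closure_eq.subset (specializes_iff_mem_closure.1 (IsLocalRing.specializes_closedPoint ((r ≫ q) y)))).symm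
    obtain ⟨x, hx⟩ := exc_contracted hh hC hH0 hg p hX ι hE (by
      rintro _ ⟨a, rfl⟩
      have h1 : b (ι a) = y := by
        have h2 : (ι ≫ b) a ∈ ({y} : Set Z₁) := hry ▸ ⟨a, rfl⟩
        exact h2
      show (h ≫ p) (ι a) = IsLocalRing.closedPoint R
      rw [hp, Category.assoc, Scheme.Hom.comp_apply, h1]
      exact hys)
    obtain ⟨h₁, hh₁, -⟩ := Groth.L13.Contraction.existsUnique_desc hE b hb h x hx
    change b ≫ h₁ = h at hh₁
    obtain ⟨u, -, hu⟩ := Groth.L13.Contraction.existsUnique_desc hE b hb ((b ≫ r) ≫ q) ((r ≫ q) y) (by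
      haveI : Nonempty E := haveI := (excCurve_integral hE).1; inferInstance
      refine Set.Nonempty.subset_singleton_iff (Set.range_nonempty _) |>.1 ?_
      rintro _ ⟨a, rfl⟩
      have h2 : (ι ≫ b) a ∈ ({y} : Set Z₁) := hry ▸ ⟨a, rfl⟩
      show (r ≫ q) (b (ι a)) = (r ≫ q) y
      rw [show b (ι a) = y from h2])
    have hp₁ : h₁ ≫ p = r ≫ q :=
      (hu (h₁ ≫ p) (by show b ≫ h₁ ≫ p = _; rw [reassoc_of% hh₁, hp])).trans
        (hu (r ≫ q) (Category.assoc b r q).symm).symm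
    haveI := isOpenImmersion_model hgY
    haveI : IsIso (r ∣_ gY.opensRange) := isIso_over_generic hg₁ hgY r rfl hg₁r
    have hgb : gZ ≫ b = g₁ := Groth.L05.PtSeq.eq_of_mono_over r gY.opensRange
      (by rw [Category.assoc, hs', hg₁r]) fun c => ⟨c, by
        rw [← Scheme.Hom.comp_apply, Category.assoc, hs']⟩
    exact ih q hY gY hgY g₁ hg₁ hg₁r h₁ hp₁ (by rw [← hgb, Category.assoc, hh₁, hgh])

/-- Morphisms of models are determined on the generic fibre. -/
theorem hom_ext {Y X : Scheme.{u}} {q : Y ⟶ Spec (CommRingCat.of R)} {p : X ⟶ Spec (CommRingCat.of R)}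
    [IsIntegral Y] [IsIntegral C] [IsSeparated p] {gY : C ⟶ Y} (hgY : IsPullback gY f q (gen R)) (b b' : Y ⟶ X)
    (h : b ≫ p = b' ≫ p) (hg : gY ≫ b = gY ≫ b') : b = b' := by
  haveI := isOpenImmersion_model hgY
  haveI : IsDominant gY := ⟨gY.isOpenEmbedding.isOpen_range.dense (Set.range_nonempty _)⟩
  exact ext_of_isDominant_of_isSeparated p h gY hg

/-- The mapping property of the minimal model. -/
theorem mapping_property (hC : Curve.IsSmoothProperCurve (FractionRing R) C f) (hH0 : IsIso f.appTop)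
    (hg : 0 < Models.curveGenus (FractionRing R) C f) {X Y : Scheme.{u}} {p : X ⟶ Spec (CommRingCat.of R)}
    {q : Y ⟶ Spec (CommRingCat.of R)} (hX : Models.IsMinimalModel R X p C f)
    (hY : Models.IsRegularProperModel R Y q C f) {gX : C ⟶ X} (hgX : IsPullback gX f p (gen R)) {gY : C ⟶ Y}
    (hgY : IsPullback gY f q (gen R)) :
    (∃! b : Y ⟶ X, b ≫ p = q ∧ gY ≫ b = gX) ∧
      ∀ b : Y ⟶ X, b ≫ p = q → gY ≫ b = gX → Models.IsContractionSeq b := by
  haveI : IsIntegral C := hC.2.2.1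
  obtain ⟨hintY, hNY, hdimY, hSY⟩ := surface hC hY
  obtain ⟨hintX, hNX, hdimX, -⟩ := surface hC hX.1
  haveI := hintY; haveI := hNY; haveI := hintX; haveI := hNX
  haveI := hX.1.2.1; haveI := hY.2.1
  haveI := isOpenImmersion_model hgY; haveI := isOpenImmersion_model hgX
  refine ⟨?_, fun b hb hgb => ?_⟩
  · obtain ⟨Z, s, h, hs, hp, hh⟩ := Groth.L05.PtSeq.exists_resolve hSY q p gY.opensRange (Set.range_nonempty _)
      (gY.isoOpensRange.inv ≫ gX) (by
        rw [Category.assoc, hgX.w, ← hgY.w, Scheme.Hom.isoOpensRange_inv_comp_assoc])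
    obtain ⟨gZ, hgZ, hgs, hZ⟩ := seq_model hs hC q hY gY hgY
    have hgh : gZ ≫ h = gX := by
      have hr : Set.range gZ ⊆ Set.range (s ⁻¹ᵁ gY.opensRange).ι := by
        rintro _ ⟨c, rfl⟩
        rw [Scheme.Opens.range_ι]
        exact ⟨c, by rw [← Scheme.Hom.comp_apply, hgs]⟩
      have h1 : IsOpenImmersion.lift (s ⁻¹ᵁ gY.opensRange).ι gZ hr ≫ (s ∣_ gY.opensRange) =
          gY.isoOpensRange.hom := by
        rw [← cancel_mono gY.opensRange.ι, Category.assoc, morphismRestrict_ι, IsOpenImmersion.lift_fac_assoc,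
          hgs, Scheme.Hom.isoOpensRange_hom_ι]
      rw [← IsOpenImmersion.lift_fac (s ⁻¹ᵁ gY.opensRange).ι gZ hr, Category.assoc, hh, reassoc_of% h1,
        Iso.hom_inv_id_assoc]
    obtain ⟨b, hb, hgb⟩ := exists_descend hs hC hH0 hg hX hgX q hY gY hgY gZ hgZ hgs h hp hgh
    exact ⟨b, ⟨hb, hgb⟩, fun b' hb' => hom_ext hgY b' b (by rw [hb, hb'.1]) (by rw [hgb, hb'.2])⟩
  · haveI : IsProper (b ≫ p) := hb ▸ ‹IsProper q›
    haveI : IsProper b := IsProper.of_comp b p
    exact Groth.Agent.S7314.result b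
      ⟨gX.opensRange, Set.range_nonempty _, isIso_over_generic hgY hgX b hb hgb⟩ hY.2.2 hdimY hX.1.2.2 hdimX

end Groth.L05.MinModel
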