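import Groth.Agent.L05.MinModel.P1
import Groth.Agent.L05.SmoothMinimal.Main
import Groth.Agent.L07.SmoothFibre
import Groth.Agent.L16.ProjSpace.Basic

/-!
# Minimal models in good reduction are smooth
-/

set_option autoImplicit false
set_option linter.style.haveILetI false
set_option backward.isDefEq.respectTransparency false

universe u

open CategoryTheory CategoryTheory.Limits AlgebraicGeometry TopologicalSpace

noncomputable section

namespace Groth.L05.MinModel

theorem smooth_fibre_of_factor {X S T C : Scheme.{u}} {p : X ⟶ S} {t : T ⟶ S} {g : C ⟶ X} {f : C ⟶ T}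
    (hsq : IsPullback g f p t) [Smooth f] (s : S) (u : Spec (S.residueField s) ⟶ T)
    (hu : u ≫ t = S.fromSpecResidueField s) : Smooth (p.fiberToSpecResidueField s) := by
  have h1 := (IsPullback.of_hasPullback f u).paste_horiz hsq
  rw [hu] at h1
  show Smooth (pullback.snd p (S.fromSpecResidueField s))
  rw [← h1.isoPullback_inv_snd]
  infer_instance

variable {R : Type u} [CommRing R] [IsDomain R] [IsDiscreteValuationRing R]
  {C : Scheme.{u}} {f : C ⟶ Spec (CommRingCat.of (FractionRing R))}

/-- A model with smooth generic fibre and a projective line as closed fibre is smooth. -/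
theorem smooth_of_p1 (hC : Curve.IsSmoothProperCurve (FractionRing R) C f) {X : Scheme.{u}}
    {p : X ⟶ Spec (CommRingCat.of R)} [Flat p] [LocallyOfFiniteType p] {g : C ⟶ X}
    (hg : IsPullback g f p (gen R)) (hP : P1Fibre R p) : Smooth p := by
  haveI : IsNoetherianRing (CommRingCat.of R) := inferInstanceAs (IsNoetherianRing R)
  haveI : LocallyOfFinitePresentation p := inferInstance
  refine Groth.L07.SmoothFibre.smooth_of_fibres p fun s => ?_
  haveI : Subsingleton (Spec ((Spec (CommRingCat.of R)).residueField s)) :=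
    inferInstanceAs (Subsingleton (PrimeSpectrum ((Spec (CommRingCat.of R)).residueField s)))
  by_cases hs : s = IsLocalRing.closedPoint R
  · obtain ⟨l, hl⟩ := Groth.L05.PtSeq.exists_lift_closed (Groth.L05.GeomMult.pt R)
      ((Spec (CommRingCat.of R)).fromSpecResidueField s) (by
        rw [Groth.L05.GeomMult.range_pt, Scheme.range_fromSpecResidueField, hs])
    obtain ⟨e, he⟩ := hP
    haveI : Smooth (pullback.snd p (Groth.L05.GeomMult.pt R)) := by
      have h : pullback.snd p (Groth.L05.GeomMult.pt R) = e.hom ≫ CohB1.ProjSpace.toSpec 1 _ := he.symm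
      rw [h]
      infer_instance
    exact smooth_fibre_of_factor (IsPullback.of_hasPullback p (Groth.L05.GeomMult.pt R)) s l hl
  · haveI := isOpenImmersion_gen (R := R)
    haveI : Smooth f := hC.2.1
    exact smooth_fibre_of_factor hg s (IsOpenImmersion.lift (gen R) _ (by
      rw [range_gen, Scheme.range_fromSpecResidueField]
      exact Set.singleton_subset_iff.2 hs)) (IsOpenImmersion.lift_fac _ _ _)

/-- A minimal model of a curve with good reduction is smooth. -/
theorem smooth_of_goodReduction (hC : Curve.IsSmoothProperCurve (FractionRing R) C f) (hH0 : IsIso f.appTop)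
    (hgood : Models.HasGoodReduction R C f) {X : Scheme.{u}} {p : X ⟶ Spec (CommRingCat.of R)}
    (hX : Models.IsMinimalModel R X p C f) : Smooth p := by
  obtain ⟨Y, q, hYm, hq, hqs⟩ := hgood
  haveI := hq; haveI := hqs
  have hY : Models.IsRegularProperModel R Y q C f := ⟨hYm, hq, Groth.L05.SmoothMinimal.isRegularScheme R q⟩
  have hYmin : Models.IsMinimalModel R Y q C f :=
    ⟨hY, fun Γ => Groth.L05.SmoothMinimal.not_isExcCurve R q C f hC hH0 hY Γ⟩
  obtain ⟨gY, hgY⟩ := hYm.2.2.2
  obtain ⟨gX, hgX⟩ := hX.1.1.2.2.2
  rcases iso_or_p1 hC hH0 hYmin hX hgY hgX with ⟨e, he, -⟩ | hP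
  · rw [show p = e.inv ≫ q by rw [← he, e.inv_hom_id_assoc]]
    infer_instance
  · haveI := hX.1.1.1; haveI := hX.1.1.2.1
    exact smooth_of_p1 hC hgX hP

end Groth.L05.MinModel
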